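import Groth.Agent.GLin.K764.HopfMod
import Mathlib.RingTheory.Noetherian.Basic
import Mathlib.RingTheory.Ideal.Quotient.Operations

/-!
# Linearly reductive groups and relative Hopf modules

* `exists_invariant_coeff`: a fixed vector which is a combination of fixed vectors is a combination with
  invariant coefficients;
* `comap_map_invariants`: `I R ∩ R^G = I`;
* `isNoetherianRing_invariants`, `exists_finset_fixedPts`;
* `exists_fixed_mem_sub_mem`: for a stable `J` and `I` with `b ∈ J`, `b - 1 ∈ I` there is an invariant such `b`.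
-/

set_option autoImplicit false

universe u w

open TensorProduct HopfRep

namespace K764.Reductive

open Groth.Agent.Books.ComodBasic Groth.Agent.Books.ComodHom Groth.Agent.Books.ComodInv
open TameAct K764.HopfMod

variable {k : Type u} [Field k] {A : Type u} [CommRing A] [HopfAlgebra k A]

section Mod

variable {R : Type u} [CommRing R] [Algebra k R] [Comod k A R]
variable {M : Type w} [AddCommGroup M] [Module k M] [Module R M] [IsScalarTower k R M]
  [Comod k A M]

/-- `r ↦ r • v` is a comodule map for `v` fixed. -/
lemma isComodHom_smul_fixed [IsHopfMod k A R M] {v : M} (hv : v ∈ fixedPts k A M) :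
    IsComodHom k A ((LinearMap.toSpanSingleton R M v).restrictScalars k) := by
  intro r
  rw [LinearMap.restrictScalars_apply, LinearMap.toSpanSingleton_apply,
    IsHopfMod.coact_smul (B := R), (mem_fixedPts_iff v).1 hv]
  generalize Comod.coact (k := k) (A := A) r = z
  induction z with
  | zero => simp
  | tmul r a => simp
  | add x y hx hy => simp only [map_add, LinearMap.add_apply, hx, hy]

/-- Multiplication by an invariant is a comodule map. -/
lemma isComodHom_fixed_smul [GLin.IsCoactAlg k A R] [IsHopfMod k A R M] {r : R}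
    (hr : r ∈ GLin.invariants k A R) :
    IsComodHom k A ((LinearMap.lsmul R M r).restrictScalars k) := by
  intro m
  rw [LinearMap.restrictScalars_apply, LinearMap.lsmul_apply,
    IsHopfMod.coact_smul (B := R), (GLin.mem_invariants_iff k A R r).1 hr]
  generalize Comod.coact (k := k) (A := A) m = z
  induction z with
  | zero => simp
  | tmul r a => simp
  | add x y hx hy => simp only [map_add, hx, hy]

lemma smul_mem_fixedPts [GLin.IsCoactAlg k A R] [IsHopfMod k A R M] {r : R}
    (hr : r ∈ GLin.invariants k A R) {m : M} (hm : m ∈ fixedPts k A M) :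
    r • m ∈ fixedPts k A M :=
  IsComodHom.map_mem_fixedPts (isComodHom_fixed_smul hr) hm

/-- Every relation `m = ∑ rᵢ vᵢ` among fixed vectors can be rewritten with invariant coefficients. -/
theorem exists_invariant_coeff (hG : IsLinearlyReductive k A) [IsHopfMod k A R M]
    {n : ℕ} (v : Fin n → M) (hv : ∀ i, v i ∈ fixedPts k A M) (r : Fin n → R)
    (h : ∑ i, r i • v i ∈ fixedPts k A M) :
    ∃ s : Fin n → R, (∀ i, s i ∈ fixedPts k A R) ∧ ∑ i, s i • v i = ∑ i, r i • v i := by
  let _ := piComod (k := k) (A := A) (Fin n) R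
  let F : (Fin n → R) →ₗ[k] M :=
    ∑ i, ((LinearMap.toSpanSingleton R M (v i)).restrictScalars k) ∘ₗ LinearMap.proj i
  have hF : IsComodHom k A F := by
    have : ∀ (s : Finset (Fin n)), IsComodHom k A
        (∑ i ∈ s, ((LinearMap.toSpanSingleton R M (v i)).restrictScalars k) ∘ₗ LinearMap.proj i :
          (Fin n → R) →ₗ[k] M) := by
      intro s
      induction s using Finset.induction_on with
      | empty => simpa using isComodHom_zero
      | insert a s ha ih =>
        rw [Finset.sum_insert ha]
        exact ((isComodHom_smul_fixed (hv a)).comp (isComodHom_proj a)).add ih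
    exact this Finset.univ
  have hFr : ∀ r, F r = ∑ i, r i • v i := by
    intro r
    simp [F]
  obtain ⟨s, hs, hs'⟩ := exists_fixed_lift hG hF (w := ∑ i, r i • v i) h (hFr r)
  refine ⟨s, fun i => ?_, by rw [← hFr, hs']⟩
  exact IsComodHom.map_mem_fixedPts (isComodHom_proj i) hs

/-- A fixed vector in the span of a set of fixed vectors is in its span over the invariants. -/
theorem mem_span_invariants (hG : IsLinearlyReductive k A) [GLin.IsCoactAlg k A R]
    [IsHopfMod k A R M] (S : Set M) (hS : S ⊆ (fixedPts k A M : Set M)) {m : M}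
    (hm : m ∈ fixedPts k A M) (hm' : m ∈ Submodule.span R S) :
    m ∈ Submodule.span (GLin.invariants k A R) S := by
  rw [Submodule.mem_span_set'] at hm'
  obtain ⟨n, r, g, hg⟩ := hm'
  obtain ⟨s, hs, hs'⟩ := exists_invariant_coeff hG (fun i => (g i : M)) (fun i => hS (g i).2) r
    (by rw [hg]; exact hm)
  rw [← hg, ← hs']
  refine Submodule.sum_mem _ fun i _ => ?_
  have : s i • (g i : M) = (⟨s i, hs i⟩ : GLin.invariants k A R) • (g i : M) := rfl
  rw [this]
  exact Submodule.smul_mem _ _ (Submodule.subset_span (g i).2)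

/-- Finite generation of the fixed vectors over the invariants. -/
theorem exists_finset_fixedPts (hG : IsLinearlyReductive k A) [GLin.IsCoactAlg k A R]
    [IsHopfMod k A R M] [IsNoetherian R M] :
    ∃ s : Finset M, (↑s : Set M) ⊆ (fixedPts k A M : Set M) ∧
      (fixedPts k A M : Set M) ⊆ Submodule.span (GLin.invariants k A R) (↑s : Set M) := by
  classical
  obtain ⟨s, hs, hs'⟩ := Submodule.fg_span_iff_fg_span_finset_subset (R := R)
    (fixedPts k A M : Set M) |>.1 (IsNoetherian.noetherian _)
  refine ⟨s, hs, fun m hm => mem_span_invariants hG _ hs hm ?_⟩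
  rw [← hs']
  exact Submodule.subset_span hm

end Mod

section Ring

variable {R : Type u} [CommRing R] [Algebra k R] [Comod k A R] [GLin.IsCoactAlg k A R]

theorem comap_map_invariants (hG : IsLinearlyReductive k A) (I : Ideal (GLin.invariants k A R)) :
    (I.map (algebraMap (GLin.invariants k A R) R)).comap
      (algebraMap (GLin.invariants k A R) R) = I := by
  have := isHopfMod_self (k := k) (A := A) (B := R)
  apply le_antisymm _ Ideal.le_comap_map
  intro x hx
  rw [Ideal.mem_comap, Ideal.map, Ideal.span, Submodule.mem_span_set'] at hx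
  obtain ⟨n, r, g, hg⟩ := hx
  have hg' : ∀ i, ∃ y ∈ I, algebraMap (GLin.invariants k A R) R y = g i := fun i => (g i).2
  choose y hyI hy using hg'
  have hx' : ∑ i, r i • (y i : R) = (x : R) := by
    refine Eq.trans (Finset.sum_congr rfl fun i _ => ?_) hg
    rw [← hy]
    rfl
  obtain ⟨s, hs, hs'⟩ := exists_invariant_coeff hG (fun i => (y i : R)) (fun i => (y i).2) r
    (by rw [hx']; exact x.2)
  have : x = ∑ i, (⟨s i, hs i⟩ : GLin.invariants k A R) * y i := by
    apply Subtype.ext
    rw [AddSubmonoidClass.coe_finsetSum, ← hx', ← hs']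
    rfl
  rw [this]
  exact I.sum_mem fun i _ => I.mul_mem_left _ (hyI i)

theorem isNoetherianRing_invariants (hG : IsLinearlyReductive k A) [IsNoetherianRing R] :
    IsNoetherianRing (GLin.invariants k A R) := by
  rw [isNoetherianRing_iff, ← monotone_stabilizes_iff_noetherian]
  intro f
  let g : ℕ →o Ideal R :=
    ⟨fun n => Ideal.map (algebraMap (GLin.invariants k A R) R) (f n),
      fun a b h => Ideal.map_mono (f.2 h)⟩
  obtain ⟨n, hn⟩ := monotone_stabilizes_iff_noetherian.2 (inferInstanceAs (IsNoetherian R R)) g
  refine ⟨n, fun m hm => ?_⟩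
  have h1 := comap_map_invariants hG (f n)
  have h2 := comap_map_invariants hG (f m)
  rw [← h1, ← h2]
  have h3 : Ideal.map (algebraMap (GLin.invariants k A R) R) (f n) =
    Ideal.map (algebraMap (GLin.invariants k A R) R) (f m) := hn m hm
  rw [h3]

/-- The comodule structure on the quotient by a stable ideal. -/
@[reducible] noncomputable def quotIdealComod (I : Ideal R)
    (hI : IsSubcomod (k := k) (A := A) (I.restrictScalars k)) : Comod k A (R ⧸ I) :=
  quotC (Ideal.Quotient.mkₐ k I).toLinearMap (Ideal.Quotient.mkₐ_surjective k I) (by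
    have : LinearMap.ker (Ideal.Quotient.mkₐ k I).toLinearMap = I.restrictScalars k := by
      ext x
      simp [Ideal.Quotient.eq_zero_iff_mem]
    rw [this]
    exact hI)

omit [GLin.IsCoactAlg k A R] in
lemma isComodHom_mk (I : Ideal R) (hI : IsSubcomod (k := k) (A := A) (I.restrictScalars k)) :
    letI := quotIdealComod I hI
    IsComodHom k A (Ideal.Quotient.mkₐ k I).toLinearMap :=
  isComodHom_quotC _ _ _

omit [GLin.IsCoactAlg k A R] in
/-- Invariant elements of a subcomodule congruent to a given invariant class. -/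
theorem exists_fixed_mem_sub_mem (hG : IsLinearlyReductive k A) (I : Submodule k R)
    (hI : IsSubcomod (k := k) (A := A) I)
    (J : Submodule k R) (hJ : IsSubcomod (k := k) (A := A) J) {c : R}
    (hc : c ∈ fixedPts k A R) {b : R} (hb : b ∈ J) (hbc : b - c ∈ I) :
    ∃ a ∈ fixedPts k A R, a ∈ J ∧ a - c ∈ I := by
  let _ := subComod J hJ
  let _ := quotComod I hI
  have h1 : IsComodHom k A (I.mkQ ∘ₗ J.subtype) :=
    (isComodHom_mkQ I hI).comp (isComodHom_subtype J hJ)
  obtain ⟨a, ha, ha'⟩ := exists_fixed_lift hG h1 (w := I.mkQ c)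
    (IsComodHom.map_mem_fixedPts (isComodHom_mkQ I hI) hc) (v := ⟨b, hb⟩)
    (by
      change I.mkQ b = I.mkQ c
      exact (Submodule.Quotient.eq I).2 hbc)
  exact ⟨a, IsComodHom.map_mem_fixedPts (isComodHom_subtype J hJ) ha, a.2,
    (Submodule.Quotient.eq I).1 ha'⟩

end Ring

end K764.Reductive
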