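import Groth.Agent.UnramA.FlatUnramAt
import Groth.Agent.FlatA.LocalCriterion
import Mathlib.RingTheory.Unramified.LocalRing
import Mathlib.RingTheory.Flat.FaithfullyFlat.Algebra

/-!
# Étaleness at a point through congruences

* `exists_mul_mem_map`: unramifiedness at `m` in terms of elements;
* `exists_mul_mem`: flatness at `m` in terms of elements;
* `isEtaleAt_of_approx`: `A → B` is étale at `q` if `A / p ^ j → B_q / p ^ j B_q` is bijective for all `j`
  (`p = q ∩ A` maximal).
-/

set_option autoImplicit false

universe u v

open TensorProduct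

namespace K764.EtApprox

section Converse

variable {S R : Type u} [CommRing S] [CommRing R] [Algebra S R] (m : Ideal R) [m.IsPrime]

theorem exists_mul_mem_map [Algebra.FiniteType S R] [Algebra.IsUnramifiedAt S m] {r : R}
    (hr : r ∈ m) :
    ∃ s ∉ m, s * r ∈ (m.comap (algebraMap S R)).map (algebraMap S R) := by
  let q : Ideal S := m.under S
  have : m.LiesOver q := ⟨rfl⟩
  let := Localization.AtPrime.algebraOfLiesOver q m
  have h1 := ((Algebra.isUnramifiedAt_iff_map_eq S q m).1 inferInstance).2
  have h2 : algebraMap R (Localization.AtPrime m) r ∈ IsLocalRing.maximalIdeal _ := by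
    rw [← Localization.AtPrime.map_eq_maximalIdeal]
    exact Ideal.mem_map_of_mem _ hr
  rw [← h1, IsScalarTower.algebraMap_eq S R, ← Ideal.map_map,
    IsLocalization.algebraMap_mem_map_algebraMap_iff m.primeCompl] at h2
  obtain ⟨s, hs, h3⟩ := h2
  exact ⟨s, hs, h3⟩

theorem exists_mul_mem [Module.Flat S (Localization.AtPrime m)] (a : Ideal S) (s : S) {u : R}
    (hu : u ∉ m) (h : u * algebraMap S R s ∈ a.map (algebraMap S R)) :
    ∃ t : S, algebraMap S R t ∉ m ∧ t * s ∈ a := by
  let q : Ideal S := m.under S
  have : m.LiesOver q := ⟨rfl⟩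
  let := Localization.AtPrime.algebraOfLiesOver q m
  have hfl : Module.Flat (Localization.AtPrime q) (Localization.AtPrime m) :=
    (Module.flat_iff_of_isLocalization (Localization.AtPrime q) q.primeCompl _).mpr inferInstance
  have hff : Module.FaithfullyFlat (Localization.AtPrime q) (Localization.AtPrime m) :=
    Module.FaithfullyFlat.of_flat_of_isLocalHom
  have h1 : algebraMap R (Localization.AtPrime m) (algebraMap S R s) ∈
      (a.map (algebraMap S R)).map (algebraMap R (Localization.AtPrime m)) := by
    rw [IsLocalization.algebraMap_mem_map_algebraMap_iff m.primeCompl]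
    exact ⟨u, hu, h⟩
  have h2 : algebraMap S (Localization.AtPrime q) s ∈ a.map (algebraMap S (Localization.AtPrime q)) := by
    rw [← Ideal.comap_map_eq_self_of_faithfullyFlat (B := Localization.AtPrime m)
      (a.map (algebraMap S (Localization.AtPrime q))), Ideal.mem_comap, Ideal.map_map,
      ← IsScalarTower.algebraMap_eq, ← IsScalarTower.algebraMap_apply,
      IsScalarTower.algebraMap_eq S R, ← Ideal.map_map, RingHom.comp_apply]
    exact h1
  rw [IsLocalization.algebraMap_mem_map_algebraMap_iff q.primeCompl] at h2
  obtain ⟨t, ht, h3⟩ := h2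
  exact ⟨t, ht, h3⟩

end Converse

section Main

variable {A B : Type u} [CommRing A] [CommRing B] [Algebra A B] [IsNoetherianRing A]
  [Algebra.FiniteType A B] (q : Ideal B) [q.IsPrime]

theorem isEtaleAt_of_approx (hp : (q.comap (algebraMap A B)).IsMaximal)
    (hsurj : ∀ (j : ℕ) (b : B), ∃ (a : A) (u : B), u ∉ q ∧
      u * (b - algebraMap A B a) ∈ ((q.comap (algebraMap A B)) ^ j).map (algebraMap A B))
    (hinj : ∀ (j : ℕ) (a : A) (u : B), u ∉ q →
      u * algebraMap A B a ∈ ((q.comap (algebraMap A B)) ^ j).map (algebraMap A B) →
      a ∈ (q.comap (algebraMap A B)) ^ j) : Algebra.IsEtaleAt A q := by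
  set p : Ideal A := q.comap (algebraMap A B) with hpdef
  have hfp : Algebra.FinitePresentation A B :=
    Algebra.FinitePresentation.of_finiteType.mp inferInstance
  have hNB : IsNoetherianRing B := Algebra.FiniteType.isNoetherianRing A B
  have hlie : q.LiesOver p := ⟨rfl⟩
  let := Localization.AtPrime.algebraOfLiesOver p q
  have hNL : IsNoetherianRing (Localization.AtPrime q) :=
    IsLocalization.isNoetherianRing q.primeCompl _ hNB
  -- the localization
  have hmem : ∀ (j : ℕ) (b : B), algebraMap B (Localization.AtPrime q) b ∈
      (p ^ j).map (algebraMap A (Localization.AtPrime q)) ↔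
        ∃ u ∉ q, u * b ∈ (p ^ j).map (algebraMap A B) := by
    intro j b
    rw [IsScalarTower.algebraMap_eq A B, ← Ideal.map_map,
      IsLocalization.algebraMap_mem_map_algebraMap_iff q.primeCompl]
    rfl
  have hap : ∀ (j : ℕ) (b : B), ∃ a : A, algebraMap B (Localization.AtPrime q) b -
      algebraMap A (Localization.AtPrime q) a ∈
        (p ^ j).map (algebraMap A (Localization.AtPrime q)) := by
    intro j b
    obtain ⟨a, u, hu, h⟩ := hsurj j b
    refine ⟨a, ?_⟩
    rw [IsScalarTower.algebraMap_apply A B, ← map_sub, hmem]
    exact ⟨u, hu, h⟩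
  have hpL : ∀ j : ℕ, (p ^ (j + 1)).map (algebraMap A (Localization.AtPrime q)) ≤
      IsLocalRing.maximalIdeal (Localization.AtPrime q) := by
    intro j
    rw [Ideal.map_le_iff_le_comap]
    refine (Ideal.pow_le_self (Nat.succ_ne_zero j)).trans ?_
    intro a ha
    rw [Ideal.mem_comap, IsScalarTower.algebraMap_apply A B,
      ← Localization.AtPrime.map_eq_maximalIdeal]
    exact Ideal.mem_map_of_mem _ ha
  have hapL : ∀ (j : ℕ) (l : Localization.AtPrime q), ∃ a : A,
      l - algebraMap A (Localization.AtPrime q) a ∈
        (p ^ j).map (algebraMap A (Localization.AtPrime q)) := by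
    intro j l
    rcases Nat.eq_zero_or_pos j with rfl | hj
    · exact ⟨0, by rw [pow_zero, Ideal.one_eq_top, Ideal.map_top]; trivial⟩
    obtain ⟨j, rfl⟩ : ∃ i, j = i + 1 := ⟨j - 1, by omega⟩
    obtain ⟨b, u, rfl⟩ := IsLocalization.exists_mk'_eq q.primeCompl l
    obtain ⟨a, ha⟩ := hap (j + 1) b
    obtain ⟨c, hc⟩ := hap (j + 1) u
    -- `c` is invertible modulo `p ^ (j + 1)`
    have hcp : c ∉ p := by
      intro hcp
      have h1 : algebraMap A (Localization.AtPrime q) c ∈
          IsLocalRing.maximalIdeal (Localization.AtPrime q) := by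
        have := hpL 0
        rw [zero_add, pow_one] at this
        exact this (Ideal.mem_map_of_mem _ hcp)
      have h2 := Ideal.add_mem _ (hpL j hc) h1
      rw [sub_add_cancel] at h2
      exact ((IsLocalRing.mem_maximalIdeal _).1 h2) (IsLocalization.map_units _ u)
    obtain ⟨d, hd⟩ : ∃ d : A, 1 - c * d ∈ p ^ (j + 1) := by
      obtain ⟨y, i, hi, hyi⟩ := hp.exists_inv hcp
      refine ⟨y * ∑ l ∈ Finset.range (j + 1), i ^ l, ?_⟩
      have h1 : 1 - c * (y * ∑ l ∈ Finset.range (j + 1), i ^ l) = i ^ (j + 1) := by
        have h2 := mul_neg_geom_sum i (j + 1)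
        have h3 : y * c = 1 - i := by rw [← hyi]; ring
        rw [← mul_assoc, mul_comm c y, h3, h2]
        ring
      rw [h1]
      exact Ideal.pow_mem_pow hi _
    refine ⟨a * d, ?_⟩
    rw [← Ideal.unit_mul_mem_iff_mem _ (IsLocalization.map_units (Localization.AtPrime q) u),
      mul_sub, IsLocalization.mk'_spec']
    have h1 := Ideal.mem_map_of_mem (algebraMap A (Localization.AtPrime q)) hd
    have h2 : algebraMap B (Localization.AtPrime q) b - algebraMap B (Localization.AtPrime q) u *
        algebraMap A (Localization.AtPrime q) (a * d) =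
        (algebraMap B (Localization.AtPrime q) b - algebraMap A (Localization.AtPrime q) a) +
        algebraMap A (Localization.AtPrime q) a * algebraMap A (Localization.AtPrime q) (1 - c * d)
        - (algebraMap B (Localization.AtPrime q) u - algebraMap A (Localization.AtPrime q) c) *
          algebraMap A (Localization.AtPrime q) (a * d) := by
      simp only [map_mul, map_sub, map_one]
      ring
    rw [h2]
    exact Ideal.sub_mem _ (Ideal.add_mem _ ha (Ideal.mul_mem_left _ _ h1))
      (Ideal.mul_mem_right _ _ hc)
  have hinjL : ∀ (j : ℕ) (a : A), algebraMap A (Localization.AtPrime q) a ∈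
      (p ^ j).map (algebraMap A (Localization.AtPrime q)) → a ∈ p ^ j := by
    intro j a ha
    rw [IsScalarTower.algebraMap_apply A B, hmem] at ha
    obtain ⟨u, hu, h⟩ := ha
    exact hinj j a u hu h
  -- unramified
  have hmax : p.map (algebraMap A (Localization.AtPrime q)) =
      IsLocalRing.maximalIdeal (Localization.AtPrime q) := by
    refine le_antisymm ?_ ?_
    · have := hpL 0
      rwa [zero_add, pow_one] at this
    · intro l hl
      obtain ⟨a, ha⟩ := hapL 1 l
      rw [pow_one] at ha
      have h1 : a ∈ p := by
        by_contra hcon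
        obtain ⟨y, i, hi, hyi⟩ := hp.exists_inv hcon
        have h2 : p.map (algebraMap A (Localization.AtPrime q)) ≤
            IsLocalRing.maximalIdeal (Localization.AtPrime q) := by
          have := hpL 0
          rwa [zero_add, pow_one] at this
        have h3 : algebraMap A (Localization.AtPrime q) a ∈
            IsLocalRing.maximalIdeal (Localization.AtPrime q) := by
          have h4 := Ideal.sub_mem _ hl (h2 ha)
          rwa [sub_sub_cancel] at h4
        have h5 : algebraMap A (Localization.AtPrime q) 1 ∈
            IsLocalRing.maximalIdeal (Localization.AtPrime q) := by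
          rw [← hyi, map_add, map_mul]
          exact Ideal.add_mem _ (Ideal.mul_mem_left _ _ h3) (h2 (Ideal.mem_map_of_mem _ hi))
        rw [map_one] at h5
        exact (IsLocalRing.mem_maximalIdeal _).1 h5 isUnit_one
      have h2 := Ideal.add_mem _ ha (Ideal.mem_map_of_mem (algebraMap A (Localization.AtPrime q)) h1)
      rwa [sub_add_cancel] at h2
  have hsurjres : Function.Surjective (algebraMap p.ResidueField q.ResidueField) := by
    intro z
    obtain ⟨l, rfl⟩ := IsLocalRing.residue_surjective z
    obtain ⟨a, ha⟩ := hapL 1 l
    rw [pow_one, hmax] at ha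
    refine ⟨algebraMap A p.ResidueField a, ?_⟩
    rw [← IsScalarTower.algebraMap_apply, IsScalarTower.algebraMap_apply A
      (Localization.AtPrime q) q.ResidueField, eq_comm, ← sub_eq_zero]
    have h1 : algebraMap (Localization.AtPrime q) q.ResidueField
      (l - algebraMap A (Localization.AtPrime q) a) = 0 := by
      exact (IsLocalRing.residue_eq_zero_iff _).2 ha
    rw [map_sub] at h1
    exact h1
  have hsep : Algebra.IsSeparable p.ResidueField q.ResidueField := by
    refine ⟨fun z => ?_⟩
    obtain ⟨w, rfl⟩ := hsurjres z
    exact isSeparable_algebraMap w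
  have hu : Algebra.IsUnramifiedAt A q := (Algebra.isUnramifiedAt_iff_map_eq A p q).mpr ⟨hsep, hmax⟩
  -- flat
  have hflat : Module.Flat A (Localization.AtPrime q) := by
    refine Groth.Agent.FlatA.LocalCriterion.flat_of_forall_flat_quotient_pow (B := Localization.AtPrime q) p ?_
      fun n hn => ?_
    · rw [IsLocalRing.jacobson_eq_maximalIdeal ⊥ bot_ne_top]
      exact hmax.le
    · let e : (A ⧸ p ^ n) →ₐ[A ⧸ p ^ n] (A ⧸ p ^ n) ⊗[A] Localization.AtPrime q :=
        Algebra.TensorProduct.includeLeft
      have he : Function.Bijective e := by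
        constructor
        · rw [injective_iff_map_eq_zero]
          intro c hc
          obtain ⟨a, rfl⟩ := Ideal.Quotient.mk_surjective c
          rw [Ideal.Quotient.eq_zero_iff_mem]
          apply hinjL
          let f : (A ⧸ p ^ n) ⊗[A] Localization.AtPrime q →ₐ[A] Localization.AtPrime q ⧸
              (p ^ n).map (algebraMap A (Localization.AtPrime q)) :=
            Algebra.TensorProduct.lift
              (Ideal.Quotient.liftₐ (p ^ n) (Algebra.ofId A _) (fun a ha => by
                rw [Algebra.ofId_apply, IsScalarTower.algebraMap_apply A (Localization.AtPrime q),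
                  Ideal.Quotient.algebraMap_eq, Ideal.Quotient.eq_zero_iff_mem]
                exact Ideal.mem_map_of_mem _ ha))
              (IsScalarTower.toAlgHom A (Localization.AtPrime q) _) (fun _ _ => Commute.all _ _)
          have h1 := congrArg f hc
          rw [map_zero] at h1
          have h2 : f (e (Ideal.Quotient.mk (p ^ n) a)) = Ideal.Quotient.mk _
            (algebraMap A (Localization.AtPrime q) a) := by
            rw [show e (Ideal.Quotient.mk (p ^ n) a) = (Ideal.Quotient.mk (p ^ n) a) ⊗ₜ 1 from rfl,
              Algebra.TensorProduct.lift_tmul, map_one, mul_one]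
            rfl
          rw [h2, Ideal.Quotient.eq_zero_iff_mem] at h1
          exact h1
        · intro z
          induction z with
          | zero => exact ⟨0, map_zero _⟩
          | add z w hz hw =>
            obtain ⟨z', hz⟩ := hz
            obtain ⟨w', hw⟩ := hw
            exact ⟨z' + w', by rw [map_add, hz, hw]⟩
          | tmul c l =>
            obtain ⟨a, ha⟩ := hapL n l
            refine ⟨a • c, ?_⟩
            have h1 : ∀ y ∈ (p ^ n).map (algebraMap A (Localization.AtPrime q)),
                c ⊗ₜ[A] y = 0 := by
              intro y hy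
              have h4 : y ∈ ((p ^ n) • ⊤ : Submodule A (Localization.AtPrime q)) := by
                rw [Ideal.smul_top_eq_map]
                exact hy
              refine Submodule.smul_induction_on h4 (fun a ha l _ => ?_) (fun y y' hy hy' => ?_)
              · rw [TensorProduct.tmul_smul, TensorProduct.smul_tmul']
                have h5 : a • c = 0 := by
                  obtain ⟨c, rfl⟩ := Ideal.Quotient.mk_surjective c
                  rw [Algebra.smul_def, Ideal.Quotient.algebraMap_eq,
                    Ideal.Quotient.eq_zero_iff_mem.2 ha, zero_mul]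
                rw [h5, TensorProduct.zero_tmul]
              · rw [TensorProduct.tmul_add, hy, hy', add_zero]
            have h2 := h1 _ ha
            rw [TensorProduct.tmul_sub, sub_eq_zero] at h2
            rw [h2, Algebra.algebraMap_eq_smul_one, TensorProduct.tmul_smul,
              TensorProduct.smul_tmul']
            rfl
      exact Module.Flat.of_linearEquiv (LinearEquiv.ofBijective e.toLinearMap he).symm
  exact Groth.Agent.UnramA.FlatUnramAt.isEtaleAt_of_isUnramifiedAt_of_flat q hflat

end Main

end K764.EtApprox
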