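import Groth.Agent.GLin.K764.LunaFin
import Groth.Agent.GLin.K764.EtApprox
import Groth.Agent.GLin.K764.Reductive
import Groth.Agent.LunaSt.K881.FinInv
import Groth.Agent.S9560

/-!
# Luna's fundamental lemma for finite morphisms

* `comap_map_eq`: ideals of an algebra identified with the invariants are contracted;
* `isNoetherianRing_of_range`, `finiteType_of_range`;
* `isEtaleAt_of_finite`.
-/

set_option autoImplicit false
set_option linter.unusedSectionVars false

universe u v w

open TensorProduct HopfRep GLin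

namespace K764.LunaEt

open K765.Basic K765.Tr K765.Rey K765.Closed K764.LunaFin

section Inv

variable {k : Type u} {A : Type u} [Field k] [CommRing A] [HopfAlgebra k A]
variable {R : Type u} [CommRing R] [Algebra k R] [Comod k A R] [IsCoactAlg k A R]
variable {R₀ : Type u} [CommRing R₀] [Algebra k R₀] [Algebra R₀ R] [IsScalarTower k R₀ R]

theorem mem_invariants (hR₀ : (IsScalarTower.toAlgHom k R₀ R).range = invariants k A R) (r : R₀) :
    algebraMap R₀ R r ∈ invariants k A R := by
  rw [← hR₀]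
  exact ⟨r, rfl⟩

theorem exists_eq (hR₀ : (IsScalarTower.toAlgHom k R₀ R).range = invariants k A R) {r : R}
    (hr : r ∈ invariants k A R) : ∃ r₀ : R₀, algebraMap R₀ R r₀ = r := by
  rw [← hR₀] at hr
  exact hr

theorem comap_map_eq (hG : IsLinearlyReductive k A)
    (hR₀i : Function.Injective (algebraMap R₀ R))
    (hR₀ : (IsScalarTower.toAlgHom k R₀ R).range = invariants k A R) (I : Ideal R₀) :
    (I.map (algebraMap R₀ R)).comap (algebraMap R₀ R) = I := by
  refine le_antisymm (fun a ha => ?_) Ideal.le_comap_map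
  have key : ∀ z ∈ I.map (algebraMap R₀ R), ∀ c : R, ∃ b ∈ I, algebraMap R₀ R b = rey hG R (c * z) := by
    intro z hz
    induction hz using Submodule.span_induction with
    | mem z hz =>
      obtain ⟨i, hi, rfl⟩ := hz
      intro c
      obtain ⟨c₀, hc₀⟩ := exists_eq hR₀ (rey_mem_invariants hG c)
      refine ⟨c₀ * i, I.mul_mem_left _ hi, ?_⟩
      rw [map_mul, hc₀, rey_mul hG c (mem_invariants hR₀ i)]
    | zero => exact fun c => ⟨0, I.zero_mem, by rw [mul_zero, map_zero, map_zero]⟩
    | add z z' _ _ hz hz' =>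
      intro c
      obtain ⟨b, hb, h1⟩ := hz c
      obtain ⟨b', hb', h2⟩ := hz' c
      exact ⟨b + b', I.add_mem hb hb', by rw [map_add, h1, h2, mul_add, map_add]⟩
    | smul a z _ hz =>
      intro c
      obtain ⟨b, hb, h1⟩ := hz (c * a)
      exact ⟨b, hb, by rw [h1, smul_eq_mul, mul_assoc]⟩
  obtain ⟨b, hb, h1⟩ := key _ ha 1
  rw [one_mul, rey_of_mem_invariants hG (mem_invariants hR₀ a)] at h1
  rwa [← hR₀i h1]

theorem isNoetherianRing_of_range (hG : IsLinearlyReductive k A)
    (hR₀i : Function.Injective (algebraMap R₀ R))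
    (hR₀ : (IsScalarTower.toAlgHom k R₀ R).range = invariants k A R) [IsNoetherianRing R] :
    IsNoetherianRing R₀ := by
  have h1 := K764.Reductive.isNoetherianRing_invariants (R := R) hG
  let e : R₀ ≃ₐ[k] (IsScalarTower.toAlgHom k R₀ R).range := AlgEquiv.ofInjective _ hR₀i
  have h2 : IsNoetherianRing (IsScalarTower.toAlgHom k R₀ R).range := by
    rw [hR₀]
    exact h1
  exact isNoetherianRing_of_ringEquiv _ e.symm.toRingEquiv

end Inv

section Fin

variable {k : Type u} {A : Type u} [Field k] [IsAlgClosed k] [CommRing A] [HopfAlgebra k A]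
  [Algebra.FiniteType k A]
variable {S : Type u} [CommRing S] [Algebra k S] [Algebra.FiniteType k S] [Comod k A S]
  [IsCoactAlg k A S]
variable {R : Type u} [CommRing R] [Algebra k R] [Algebra.FiniteType k R] [Comod k A R]
  [IsCoactAlg k A R]
variable [Algebra S R] [IsScalarTower k S R]
variable {S₀ : Type u} [CommRing S₀] [Algebra k S₀] [Algebra S₀ S] [IsScalarTower k S₀ S]
variable {R₀ : Type u} [CommRing R₀] [Algebra k R₀] [Algebra R₀ R] [IsScalarTower k R₀ R]
variable [Algebra S₀ R₀] [Algebra S₀ R] [IsScalarTower S₀ S R] [IsScalarTower S₀ R₀ R]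

theorem finiteType_of_range (hG : IsLinearlyReductive k A)
    (he : IsEquiv A (IsScalarTower.toAlgHom k S R))
    (hS₀ : (IsScalarTower.toAlgHom k S₀ S).range = invariants k A S)
    (hR₀i : Function.Injective (algebraMap R₀ R))
    (hR₀ : (IsScalarTower.toAlgHom k R₀ R).range = invariants k A R) [Algebra.FiniteType S R] :
    Algebra.FiniteType S₀ R₀ := by
  classical
  have hN : IsNoetherianRing S := Algebra.FiniteType.isNoetherianRing k S
  obtain ⟨s, hs⟩ := K881.FinInv.exists_finset hG S R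
    (LinearMap.ext fun s => he.isComodHom s)
  have hsub : ∀ r ∈ s, ∃ r₀ : R₀, algebraMap R₀ R r₀ = r := by
    intro r hr
    apply exists_eq hR₀
    rw [hs]
    exact Algebra.subset_adjoin (Or.inr hr)
  choose! g hg using hsub
  refine ⟨⟨s.image g, ?_⟩⟩
  rw [eq_top_iff]
  rintro r -
  have key : ∀ z ∈ Algebra.adjoin k (⇑(algebraMap S R) '' ↑(GLin.invariants k A S) ∪ ↑s),
      ∃ y ∈ Algebra.adjoin S₀ (s.image g : Set R₀), algebraMap R₀ R y = z := by
    intro z hz
    induction hz using Algebra.adjoin_induction with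
    | mem z hz =>
      rcases hz with ⟨f, hf, rfl⟩ | hz
      · obtain ⟨f₀, rfl⟩ := exists_eq hS₀ hf
        refine ⟨algebraMap S₀ R₀ f₀, Subalgebra.algebraMap_mem _ _, ?_⟩
        rw [← IsScalarTower.algebraMap_apply, ← IsScalarTower.algebraMap_apply]
      · exact ⟨g z, Algebra.subset_adjoin (by simpa using ⟨z, hz, rfl⟩), hg z hz⟩
    | algebraMap c =>
      refine ⟨algebraMap S₀ R₀ (algebraMap k S₀ c), Subalgebra.algebraMap_mem _ _, ?_⟩
      rw [← IsScalarTower.algebraMap_apply, IsScalarTower.algebraMap_apply S₀ S R,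
        ← IsScalarTower.algebraMap_apply k S₀ S, ← IsScalarTower.algebraMap_apply k S R]
    | add z z' _ _ hz hz' =>
      obtain ⟨y, hy, rfl⟩ := hz
      obtain ⟨y', hy', rfl⟩ := hz'
      exact ⟨y + y', add_mem hy hy', map_add _ _ _⟩
    | mul z z' _ _ hz hz' =>
      obtain ⟨y, hy, rfl⟩ := hz
      obtain ⟨y', hy', rfl⟩ := hz'
      exact ⟨y * y', mul_mem hy hy', map_mul _ _ _⟩
  have h1 := mem_invariants hR₀ r
  rw [hs] at h1
  obtain ⟨y, hy, h2⟩ := key _ h1
  rwa [← hR₀i h2]

/-- **Luna's fundamental lemma, finite case.** -/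
theorem isEtaleAt_of_finite [IsDomain A] (hG : IsLinearlyReductive k A)
    (he : IsEquiv A (IsScalarTower.toAlgHom k S R)) [Module.Finite S R]
    (hS₀i : Function.Injective (algebraMap S₀ S))
    (hS₀ : (IsScalarTower.toAlgHom k S₀ S).range = invariants k A S)
    (hR₀i : Function.Injective (algebraMap R₀ R))
    (hR₀ : (IsScalarTower.toAlgHom k R₀ R).range = invariants k A R)
    (x : R →ₐ[k] k) (hx : IsClosedOrbit k A x) (m : Ideal R) [m.IsMaximal]
    (hm : m = RingHom.ker x.toRingHom)
    (het : Algebra.IsEtaleAt S m)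
    (hinj : ∀ g : A →ₐ[k] k, actPt k g (x.comp (IsScalarTower.toAlgHom k S R)) =
      x.comp (IsScalarTower.toAlgHom k S R) → actPt k g x = x) :
    Algebra.IsEtaleAt S₀ (Ideal.comap (algebraMap R₀ R) m) := by
  have hNS : IsNoetherianRing S := Algebra.FiniteType.isNoetherianRing k S
  have hNS₀ : IsNoetherianRing S₀ := isNoetherianRing_of_range hG hS₀i hS₀
  have hft : Algebra.FiniteType S₀ R₀ := finiteType_of_range (S := S) (R := R) hG he hS₀ hR₀i hR₀
  have hfp : Algebra.FinitePresentation S R := Algebra.FinitePresentation.of_finiteType.mp inferInstance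
  have hmem : ∀ r : R, r ∈ m ↔ x r = 0 := by
    intro r
    rw [hm]
    exact Iff.rfl
  set y := x.comp (IsScalarTower.toAlgHom k S R) with hydef
  -- étaleness in terms of elements
  have hunr : ∀ r : R, x r = 0 → ∃ s : R, x s ≠ 0 ∧
      s * r ∈ (RingHom.ker y).map (algebraMap S R) := by
    intro r hr
    obtain ⟨s, hs, h1⟩ := K764.EtApprox.exists_mul_mem_map (S := S) m ((hmem r).2 hr)
    refine ⟨s, fun h => hs ((hmem s).2 h), ?_⟩
    have h2 : m.comap (algebraMap S R) = RingHom.ker y := by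
      ext s
      rw [Ideal.mem_comap, hmem]
      exact Iff.rfl
    rwa [h2] at h1
  have hfl : Module.Flat S (Localization.AtPrime m) := by
    let q' : Ideal S := m.under S
    have : m.LiesOver q' := ⟨rfl⟩
    let := Localization.AtPrime.algebraOfLiesOver q' m
    exact (Module.flat_iff_of_isLocalization (Localization.AtPrime q') q'.primeCompl _).mp
      ((Groth.Agent.S9560.result S R q' m).1 het).1
  have hflat : ∀ (a : Ideal S) (s : S) (u : R), x u ≠ 0 →
      u * algebraMap S R s ∈ a.map (algebraMap S R) →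
      ∃ t : S, x (algebraMap S R t) ≠ 0 ∧ t * s ∈ a := by
    intro a s u hu h
    obtain ⟨t, ht, h1⟩ := K764.EtApprox.exists_mul_mem m a s (fun h => hu ((hmem u).1 h)) h
    exact ⟨t, fun h => ht ((hmem _).2 h), h1⟩
  set q := Ideal.comap (algebraMap R₀ R) m with hq
  have hqmem : ∀ r : R₀, r ∈ q ↔ x (algebraMap R₀ R r) = 0 := fun r => by
    rw [hq, Ideal.mem_comap, hmem]
  let p := q.comap (algebraMap S₀ R₀)
  have hpmem : ∀ s : S₀, s ∈ p ↔ y (algebraMap S₀ S s) = 0 := by
    intro s
    change algebraMap S₀ R₀ s ∈ q ↔ _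
    rw [hqmem, ← IsScalarTower.algebraMap_apply, IsScalarTower.algebraMap_apply S₀ S R]
    rfl
  have hpmax : p.IsMaximal := by
    have h1 : p = RingHom.ker (y.comp (IsScalarTower.toAlgHom k S₀ S)) := by
      ext s
      rw [hpmem]
      exact Iff.rfl
    rw [h1]
    exact RingHom.ker_isMaximal_of_surjective _ (fun c => ⟨algebraMap k S₀ c, AlgHom.commutes _ _⟩)
  have hnul : ∀ j, nul A y ^ j = (p ^ j).map (algebraMap S₀ S) := by
    intro j
    rw [Ideal.map_pow]
    congr 1
    rw [nul, Ideal.map]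
    congr 1
    ext f
    constructor
    · rintro ⟨hf, hf0⟩
      obtain ⟨f₀, rfl⟩ := exists_eq hS₀ hf
      exact ⟨f₀, (hpmem f₀).2 hf0, rfl⟩
    · rintro ⟨f₀, hf₀, rfl⟩
      exact ⟨mem_invariants hS₀ f₀, (hpmem f₀).1 hf₀⟩
  have hmapmap : ∀ j, (nul A y ^ j).map (algebraMap S R) =
      ((p ^ j).map (algebraMap S₀ R₀)).map (algebraMap R₀ R) := by
    intro j
    rw [hnul, Ideal.map_map, Ideal.map_map, ← IsScalarTower.algebraMap_eq,
      ← IsScalarTower.algebraMap_eq]
  have hcon : ∀ (j : ℕ) (r : R₀), algebraMap R₀ R r ∈ (nul A y ^ j).map (algebraMap S R) →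
      r ∈ (p ^ j).map (algebraMap S₀ R₀) := by
    intro j r hr
    rw [hmapmap, ← Ideal.mem_comap, comap_map_eq hG hR₀i hR₀] at hr
    exact hr
  refine K764.EtApprox.isEtaleAt_of_approx q hpmax (fun j b => ?_) (fun j a u hu h => ?_)
  · obtain ⟨s, hs, u, hu, hxu, h1⟩ := exists_invariant_sub_mem x hG he hx hinj hunr j
      (algebraMap R₀ R b) (mem_invariants hR₀ b)
    obtain ⟨a, rfl⟩ := exists_eq hS₀ hs
    obtain ⟨u₀, rfl⟩ := exists_eq hR₀ hu
    refine ⟨a, u₀, fun h => hxu ((hqmem _).1 h), hcon j _ ?_⟩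
    rw [map_mul, map_sub, ← IsScalarTower.algebraMap_apply S₀ R₀ R,
      IsScalarTower.algebraMap_apply S₀ S R]
    exact h1
  · have h1 : algebraMap S R (algebraMap S₀ S a) ∈ Jset k A S x j := by
      refine ⟨algebraMap R₀ R u, mem_invariants hR₀ u, fun h => hu ((hqmem _).2 h), ?_⟩
      rw [← hydef, hmapmap, ← IsScalarTower.algebraMap_apply S₀ S R,
        IsScalarTower.algebraMap_apply S₀ R₀ R, ← map_mul]
      exact Ideal.mem_map_of_mem _ h
    have h2 := mem_pow_of_mem x hG he hx hflat j _ h1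
    rw [← hydef, hnul, ← Ideal.mem_comap, comap_map_eq hG hS₀i hS₀] at h2
    exact h2

end Fin

end K764.LunaEt
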