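import Groth.Agent.GLin.K764.HopfMod
import Groth.Prelude.Def_W4c6stackyreslrsPsRefl
import Mathlib.LinearAlgebra.Dual.Lemmas

/-!
# The stabiliser Hopf ideal of a vector of a comodule

`stab k A f` is the ideal generated by the coefficients `(φ ⊗ id)(ρ f) - φ(f)`; it is a Hopf ideal
(`isHopfIdeal_stab`) and `f` is invariant modulo `I` iff `stab f ≤ I` (`mem_quotInvariants_iff_stab_le`).
-/

set_option autoImplicit false

universe u v w w'

open TensorProduct HopfRep

namespace K764.StabIdeal

open Groth.Agent.Books.ComodBasic Groth.Agent.Books.ComodHom Groth.Agent.Books.ComodInv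
open K764.HopfMod

section Lin

variable {k : Type u} [Field k] {V : Type v} [AddCommGroup V] [Module k V]
  {X : Type w} [AddCommGroup X] [Module k X]

lemma eq_zero_of_lslice {z : V ⊗[k] X}
    (h : ∀ φ : V →ₗ[k] k, TensorProduct.lid k X (φ.rTensor X z) = 0) : z = 0 := by
  apply (TensorProduct.comm k V X).injective
  rw [map_zero]
  refine eq_zero_of_slice fun φ => ?_
  rw [← h φ]
  clear h
  induction z with
  | zero => simp
  | add x y hx hy => simp only [map_add, hx, hy]
  | tmul v x => simp

lemma ext_lslice {z z' : V ⊗[k] X}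
    (h : ∀ φ : V →ₗ[k] k, TensorProduct.lid k X (φ.rTensor X z) =
      TensorProduct.lid k X (φ.rTensor X z')) : z = z' := by
  rw [← sub_eq_zero]
  refine eq_zero_of_lslice fun φ => ?_
  rw [map_sub, map_sub, h, sub_self]

end Lin

section Coideal

variable {k : Type u} [Field k] {A : Type v} [CommRing A] [Bialgebra k A]

lemma isCoideal_of (J : Ideal A) (h1 : ∀ x ∈ J, CoalgebraStruct.counit (R := k) x = 0)
    (h2 : ∀ x ∈ J, Algebra.TensorProduct.map (Ideal.Quotient.mkₐ k J) (Ideal.Quotient.mkₐ k J)
      (CoalgebraStruct.comul (R := k) x) = 0) : (J.restrictScalars k).IsCoideal := by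
  refine ⟨fun x hx => h1 x hx, fun x hx => ?_⟩
  let e : (A ⧸ J.restrictScalars k) ≃ₗ[k] A ⧸ J := Submodule.Quotient.restrictScalarsEquiv k J
  apply (TensorProduct.congr e e).injective
  rw [map_zero, ← h2 x hx]
  generalize CoalgebraStruct.comul (R := k) x = z
  induction z with
  | zero => simp
  | add x y hx hy => simp only [map_add, hx, hy]
  | tmul a b => simp; rfl

lemma isCoideal_span (s : Set A) (h1 : ∀ x ∈ s, CoalgebraStruct.counit (R := k) x = 0)
    (h2 : ∀ x ∈ s, Algebra.TensorProduct.map (Ideal.Quotient.mkₐ k (Ideal.span s))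
      (Ideal.Quotient.mkₐ k (Ideal.span s)) (CoalgebraStruct.comul (R := k) x) = 0) :
    ((Ideal.span s).restrictScalars k).IsCoideal := by
  refine isCoideal_of _ (fun x hx => ?_) (fun x hx => ?_)
  · have : Ideal.span s ≤ RingHom.ker (Bialgebra.counitAlgHom k A) :=
      Ideal.span_le.2 fun y hy => h1 y hy
    exact this hx
  · have : Ideal.span s ≤ RingHom.ker ((Algebra.TensorProduct.map
        (Ideal.Quotient.mkₐ k (Ideal.span s)) (Ideal.Quotient.mkₐ k (Ideal.span s))).comp
          (Bialgebra.comulAlgHom k A)) := Ideal.span_le.2 fun y hy => h2 y hy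
    exact this hx

end Coideal

section Stab

variable {k : Type u} [Field k] {A : Type v} [CommRing A] [HopfAlgebra k A]
  {V : Type w} [AddCommGroup V] [Module k V] [Comod k A V]

variable (k A) in
/-- The stabiliser ideal of a vector. -/
noncomputable def stab (f : V) : Ideal A :=
  Ideal.span (Set.range fun φ : V →ₗ[k] k => coeffMap A φ f - algebraMap k A (φ f))

omit [Comod k A V] in
lemma lid_rTensor_lTensor (I : Ideal A) (φ : V →ₗ[k] k) (z : V ⊗[k] A) :
    TensorProduct.lid k (A ⧸ I) (φ.rTensor (A ⧸ I)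
      (LinearMap.lTensor V (Ideal.Quotient.mkₐ k I).toLinearMap z)) =
      Ideal.Quotient.mk I (TensorProduct.lid k A (φ.rTensor A z)) := by
  induction z with
  | zero => simp
  | add x y hx hy => simp only [map_add, hx, hy]
  | tmul v a => simp [Algebra.smul_def]

lemma mem_quotInvariants_iff_stab_le (f : V) (I : Ideal A) :
    f ∈ GLin.quotInvariants k A V I ↔ stab k A f ≤ I := by
  rw [GLin.mem_quotInvariants_iff, stab, Ideal.span_le]
  constructor
  · rintro h _ ⟨φ, rfl⟩
    have h1 := congrArg (fun z => TensorProduct.lid k (A ⧸ I) (φ.rTensor (A ⧸ I) z)) h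
    simp only [lid_rTensor_lTensor] at h1
    rw [SetLike.mem_coe, ← Ideal.Quotient.eq_zero_iff_mem, map_sub, coeffMap_apply, h1]
    simp only [LinearMap.rTensor_tmul, TensorProduct.lid_tmul]
    rw [sub_eq_zero, Algebra.smul_def, mul_one]
    rfl
  · intro h
    refine ext_lslice fun φ => ?_
    rw [lid_rTensor_lTensor, ← coeffMap_apply]
    have h1 : coeffMap A φ f - algebraMap k A (φ f) ∈ I := h ⟨φ, rfl⟩
    rw [← Ideal.Quotient.eq_zero_iff_mem, map_sub, sub_eq_zero] at h1
    rw [h1]
    simp only [LinearMap.rTensor_tmul, TensorProduct.lid_tmul]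
    rw [Algebra.smul_def, mul_one]
    rfl

lemma self_mem_quotInvariants_stab (f : V) : f ∈ GLin.quotInvariants k A V (stab k A f) :=
  (mem_quotInvariants_iff_stab_le f _).2 le_rfl

lemma Psi_rmul (a : A) (z : V ⊗[k] A) : Psi V (rmul V a z) = rmul V a (Psi V z) := by
  induction z with
  | zero => simp
  | add x y hx hy => simp only [map_add, hx, hy]
  | tmul v b => rw [rmul_tmul, Psi_tmul, Psi_tmul, rmul_rmul]

omit [Comod k A V] in
lemma lTensor_mk_rmul_eq_zero (J : Ideal A) {a : A} (ha : a ∈ J) (z : V ⊗[k] A) :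
    LinearMap.lTensor V (Ideal.Quotient.mkₐ k J).toLinearMap (rmul V a z) = 0 := by
  induction z with
  | zero => simp
  | add x y hx hy => simp only [map_add, hx, hy, add_zero]
  | tmul v b =>
    rw [rmul_tmul, LinearMap.lTensor_tmul]
    have : (Ideal.Quotient.mkₐ k J).toLinearMap (b * a) = 0 :=
      Ideal.Quotient.eq_zero_iff_mem.2 (J.mul_mem_left _ ha)
    rw [this, tmul_zero]

/-- `Psi` preserves `V ⊗ J`. -/
lemma lTensor_mk_Psi_eq_zero (J : Ideal A) {z : V ⊗[k] A}
    (hz : LinearMap.lTensor V (Ideal.Quotient.mkₐ k J).toLinearMap z = 0) :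
    LinearMap.lTensor V (Ideal.Quotient.mkₐ k J).toLinearMap (Psi V z) = 0 := by
  have hex : Function.Exact (LinearMap.lTensor V ((J.restrictScalars k).subtype))
      (LinearMap.lTensor V (Ideal.Quotient.mkₐ k J).toLinearMap) := by
    apply lTensor_exact
    · intro x
      constructor
      · intro h
        exact ⟨⟨x, Ideal.Quotient.eq_zero_iff_mem.1 h⟩, rfl⟩
      · rintro ⟨y, rfl⟩
        exact Ideal.Quotient.eq_zero_iff_mem.2 y.2
    · exact Ideal.Quotient.mkₐ_surjective k J
  obtain ⟨y, rfl⟩ := (hex z).1 hz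
  clear hz
  induction y with
  | zero => simp
  | add x y hx hy => simp only [map_add, hx, hy, add_zero]
  | tmul v a =>
    rw [LinearMap.lTensor_tmul, Submodule.subtype_apply, Psi_tmul]
    exact lTensor_mk_rmul_eq_zero J a.2 _

/-- The stabiliser ideal is a Hopf ideal. -/
theorem isHopfIdeal_stab (f : V) : (stab k A f).IsHopfIdeal k := by
  have hinv := self_mem_quotInvariants_stab (k := k) (A := A) f
  rw [GLin.mem_quotInvariants_iff] at hinv
  have hco : ((stab k A f).restrictScalars k).IsCoideal := by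
    refine isCoideal_span _ ?_ ?_
    · rintro _ ⟨φ, rfl⟩
      rw [map_sub, counit_coeffMap]
      simp
    · rintro _ ⟨φ, rfl⟩
      change Algebra.TensorProduct.map (Ideal.Quotient.mkₐ k (stab k A f))
        (Ideal.Quotient.mkₐ k (stab k A f)) _ = 0
      have h1 : CoalgebraStruct.comul (R := k) (coeffMap A φ f) =
          (coeffMap A φ).rTensor A (Comod.coact (k := k) (A := A) f) :=
        isComodHom_coeffMap φ f
      have h2 : ∀ z : V ⊗[k] A, Algebra.TensorProduct.map (Ideal.Quotient.mkₐ k (stab k A f))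
          (Ideal.Quotient.mkₐ k (stab k A f)) ((coeffMap A φ).rTensor A z) =
          ((Ideal.Quotient.mkₐ k (stab k A f)).toLinearMap ∘ₗ coeffMap A φ).rTensor _
            (LinearMap.lTensor V (Ideal.Quotient.mkₐ k (stab k A f)).toLinearMap z) := by
        intro z
        induction z with
        | zero => simp
        | add x y hx hy => simp only [map_add, hx, hy]
        | tmul v a => simp
      have h3 : (Ideal.Quotient.mkₐ k (stab k A f)) (coeffMap A φ f) =
          (Ideal.Quotient.mkₐ k (stab k A f)) (algebraMap k A (φ f)) := by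
        have : coeffMap A φ f - algebraMap k A (φ f) ∈ stab k A f :=
          Ideal.subset_span ⟨φ, rfl⟩
        rw [← Ideal.Quotient.eq_zero_iff_mem, map_sub, sub_eq_zero] at this
        exact this
      rw [map_sub, map_sub, h1, h2, hinv]
      simp only [LinearMap.rTensor_tmul, LinearMap.comp_apply, AlgHom.toLinearMap_apply]
      rw [h3, Bialgebra.comul_algebraMap]
      simp [Algebra.TensorProduct.algebraMap_apply]
  refine { toIsCoideal := hco, antipode_mem := ?_ }
  intro x hx
  have hle : stab k A f ≤ (stab k A f).comap (HopfAlgebra.antipodeAlgHom k A) := by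
    conv_lhs => rw [stab]
    rw [Ideal.span_le]
    rintro _ ⟨φ, rfl⟩
    rw [SetLike.mem_coe, Ideal.mem_comap, ← Ideal.Quotient.eq_zero_iff_mem]
    -- `(id ⊗ π)(Psi (f ⊗ 1)) = f ⊗ 1`
    have h1 : LinearMap.lTensor V (Ideal.Quotient.mkₐ k (stab k A f)).toLinearMap
        (Comod.coact (k := k) (A := A) f - f ⊗ₜ[k] (1 : A)) = 0 := by
      rw [map_sub, hinv]
      simp
    have h2 := lTensor_mk_Psi_eq_zero _ h1
    have h3 : Psi V (Comod.coact (k := k) (A := A) f) = f ⊗ₜ[k] (1 : A) := by
      have := Psi_Phi (V := V) (f ⊗ₜ[k] (1 : A))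
      rw [Phi_tmul, rmul_one] at this
      exact this
    rw [map_sub, h3, map_sub, sub_eq_zero, Psi_tmul, rmul_one] at h2
    have h4 := congrArg (fun z => TensorProduct.lid k (A ⧸ stab k A f)
      (φ.rTensor (A ⧸ stab k A f) z)) h2
    simp only [lid_rTensor_lTensor] at h4
    have h5 : ∀ z : V ⊗[k] A, TensorProduct.lid k A (φ.rTensor A
        (LinearMap.lTensor V (HopfAlgebraStruct.antipode k) z)) =
        HopfAlgebraStruct.antipode k (TensorProduct.lid k A (φ.rTensor A z)) := by
      intro z
      induction z with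
      | zero => simp
      | add x y hx hy => simp only [map_add, hx, hy]
      | tmul v a => simp
    rw [h5, ← coeffMap_apply] at h4
    rw [map_sub, map_sub, AlgHom.commutes, sub_eq_zero]
    refine h4.symm.trans ?_
    congr 1
    simp [Algebra.smul_def]
  exact hle hx

end Stab

end K764.StabIdeal
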