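import Groth.Agent.Flat2E.FinSepClosure
import Mathlib.FieldTheory.FinTrdeg

/-!
# Subextensions of finitely generated field extensions are finitely generated
-/

set_option autoImplicit false

universe u v w

namespace K764.SubFG

open IntermediateField

variable {k : Type u} {M : Type v} {K : Type w} [Field k] [Field M] [Field K] [Algebra k M]
  [Algebra k K] [Algebra M K] [IsScalarTower k M K]

variable (k M K) in
/-- Subextensions of finitely generated field extensions are finitely generated. -/
theorem essFiniteType_of_tower [Algebra.EssFiniteType k K] : Algebra.EssFiniteType k M := by
  obtain ⟨s, hs⟩ := exists_isTranscendenceBasis k M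
  have hind : AlgebraicIndependent k (fun x : s => algebraMap M K (x : M)) := by
    have := hs.1.map' (f := IsScalarTower.toAlgHom k M K) (algebraMap M K).injective
    exact this
  have hfin : Finite s := finite_of_algebraicIndependent hind
  let E := IntermediateField.adjoin k s
  have halg : Algebra.IsAlgebraic E M := by
    have := hs.isAlgebraic_field
    rwa [Subtype.range_coe] at this
  have hess : Algebra.EssFiniteType E K := .of_comp k E K
  let L : IntermediateField E K := (IsScalarTower.toAlgHom E M K).fieldRange
  let e : M ≃ₐ[E] L := AlgEquiv.ofInjectiveField (IsScalarTower.toAlgHom E M K)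
  have hL : Algebra.IsAlgebraic E L := e.isAlgebraic
  have hfd : FiniteDimensional E L :=
    Groth.Agent.Flat2E.FinSepClosure.finiteDimensional_of_isAlgebraic L
  have hfd2 : FiniteDimensional E M := e.symm.toLinearEquiv.finiteDimensional
  have hE : Algebra.EssFiniteType k E :=
    IntermediateField.essFiniteType_iff.2 (IntermediateField.fg_adjoin_of_finite (Set.toFinite s))
  have h2 : Algebra.EssFiniteType E M := inferInstance
  exact Algebra.EssFiniteType.comp k E M

/-- Intermediate fields of finitely generated field extensions are finitely generated. -/
theorem exists_adjoin_eq [Algebra.EssFiniteType k K] (N : IntermediateField k K) :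
    ∃ s : Finset K, IntermediateField.adjoin k (s : Set K) = N := by
  have h : Algebra.EssFiniteType k N := essFiniteType_of_tower k N K
  exact IntermediateField.essFiniteType_iff.1 h

end K764.SubFG
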