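import Groth.Agent.GLin.K764.Units
import Groth.Agent.GLin.K764.SubFG

/-!
# The field of invariant rational functions
-/

set_option autoImplicit false

universe u v

open TensorProduct HopfRep

namespace K764.FieldInv

open K764.Units

variable {k : Type u} [Field k] {A : Type u} [CommRing A] [HopfAlgebra k A]
variable {B : Type u} [CommRing B] [Algebra k B] [Comod k A B] [GLin.IsCoactAlg k A B]

/-- The action of a rational point of the group by algebra maps. -/
noncomputable def actHom (φ : A →ₐ[k] k) : B →ₐ[k] B :=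
  AlgHom.ofLinearMap (Comod.act k A B φ) (act_of_mem_invariants (one_mem _) φ) (act_mul φ)

@[simp] lemma actHom_apply (φ : A →ₐ[k] k) (b : B) : actHom φ b = Comod.act k A B φ b := rfl

variable [IsDomain B]

omit [IsDomain B] in
lemma actFrac_aux (φ : A →ₐ[k] k) : Function.Injective
    ((IsScalarTower.toAlgHom k B (FractionRing B)).comp (actHom (A := A) φ)) := by
  intro x y h
  exact act_injective φ ((IsFractionRing.injective B (FractionRing B)) h)

/-- The action on rational functions. -/
noncomputable def actFrac (φ : A →ₐ[k] k) : FractionRing B →ₐ[k] FractionRing B :=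
  IsFractionRing.liftAlgHom (actFrac_aux φ)

lemma actFrac_algebraMap (φ : A →ₐ[k] k) (b : B) : actFrac φ (algebraMap B (FractionRing B) b) =
    algebraMap B (FractionRing B) (Comod.act k A B φ b) := by
  rw [actFrac, IsFractionRing.liftAlgHom_apply, IsFractionRing.lift_algebraMap]
  rfl

variable (k A B) in
/-- The field of invariant rational functions. -/
noncomputable def invField : IntermediateField k (FractionRing B) where
  carrier := {y | ∀ φ : A →ₐ[k] k, actFrac φ y = y}
  mul_mem' ha hb φ := by rw [map_mul, ha φ, hb φ]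
  one_mem' φ := map_one _
  add_mem' ha hb φ := by rw [map_add, ha φ, hb φ]
  zero_mem' φ := map_zero _
  algebraMap_mem' c φ := AlgHom.commutes _ _
  inv_mem' y hy φ := by rw [map_inv₀, hy φ]

lemma mem_invField (y : FractionRing B) :
    y ∈ invField k A B ↔ ∀ φ : A →ₐ[k] k, actFrac φ y = y := Iff.rfl

lemma div_mem_invField (a b : B) (hb : b ≠ 0) :
    algebraMap B (FractionRing B) a / algebraMap B (FractionRing B) b ∈ invField k A B ↔
      ∀ φ : A →ₐ[k] k, Comod.act k A B φ a * b = a * Comod.act k A B φ b := by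
  rw [mem_invField]
  refine forall_congr' fun φ => ?_
  have hφb : Comod.act k A B φ b ≠ 0 := by
    intro h
    exact hb (act_injective φ (h.trans (map_zero _).symm))
  have h1 : algebraMap B (FractionRing B) b ≠ 0 := by
    rwa [Ne, FaithfulSMul.algebraMap_eq_zero_iff]
  have h2 : algebraMap B (FractionRing B) (Comod.act k A B φ b) ≠ 0 := by
    rwa [Ne, FaithfulSMul.algebraMap_eq_zero_iff]
  rw [map_div₀, actFrac_algebraMap, actFrac_algebraMap, div_eq_div_iff h2 h1, ← map_mul, ← map_mul,
    (IsFractionRing.injective B (FractionRing B)).eq_iff]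

omit [IsDomain B] in
lemma act_pow (φ : A →ₐ[k] k) (b : B) (n : ℕ) :
    Comod.act k A B φ (b ^ n) = (Comod.act k A B φ b) ^ n :=
  map_pow (actHom φ) b n

/-- When units are scalars, elements dividing all their translates are semi-invariant. -/
lemma act_eq_smul_of_dvd (hunits : ∀ u : Bˣ, ∃ c : k, algebraMap k B c = u) {f : B}
    (hf : ∀ φ : A →ₐ[k] k, f ∣ Comod.act k A B φ f) (φ : A →ₐ[k] k) :
    ∃ c : k, c ≠ 0 ∧ Comod.act k A B φ f = c • f := by
  have h1 := act_dvd_act φ (hf (WithConv.toConv φ)⁻¹.ofConv)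
  rw [act_act_inv] at h1
  obtain ⟨u, hu⟩ := associated_of_dvd_dvd (hf φ) h1
  obtain ⟨c, hc⟩ := hunits u
  refine ⟨c, ?_, ?_⟩
  · rintro rfl
    rw [map_zero] at hc
    exact u.ne_zero hc.symm
  · rw [← hu, ← hc, Algebra.smul_def, mul_comm]

/-- Invariant rational functions have semi-invariant denominators. -/
lemma exists_semi (hunits : ∀ u : Bˣ, ∃ c : k, algebraMap k B c = u)
    [UniqueFactorizationMonoid B] (y : FractionRing B) (hy : y ∈ invField k A B) :
    ∃ b : B, b ≠ 0 ∧ (∀ φ : A →ₐ[k] k, ∃ c : k, c ≠ 0 ∧ Comod.act k A B φ b = c • b) ∧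
      ∃ a : B, y * algebraMap B (FractionRing B) b = algebraMap B (FractionRing B) a := by
  obtain ⟨f, g, hg, rfl⟩ := IsFractionRing.div_surjective (A := B) y
  have hg0 : g ≠ 0 := nonZeroDivisors.ne_zero hg
  have hinv := (div_mem_invField f g hg0).1 hy
  by_cases hf : f = 0
  · refine ⟨1, one_ne_zero, fun φ => ⟨1, one_ne_zero, ?_⟩, 0, ?_⟩
    · rw [act_of_mem_invariants (one_mem _), one_smul]
    · rw [hf]; simp
  · obtain ⟨f1, g1, d, rfl, rfl, hf1, hg1, -, -, h2⟩ := exists_reduced hf hg0 hinv
    refine ⟨g1, hg1, act_eq_smul_of_dvd hunits h2, f1, ?_⟩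
    have hd : algebraMap B (FractionRing B) d ≠ 0 := by
      rw [Ne, FaithfulSMul.algebraMap_eq_zero_iff]
      exact left_ne_zero_of_mul hg0
    have hg1' : algebraMap B (FractionRing B) g1 ≠ 0 := by
      rwa [Ne, FaithfulSMul.algebraMap_eq_zero_iff]
    rw [map_mul, map_mul]
    field_simp

open Classical in
/-- Invariant rational functions are fractions of invariants on an invariant principal open set. -/
theorem exists_denominator (hunits : ∀ u : Bˣ, ∃ c : k, algebraMap k B c = u)
    [UniqueFactorizationMonoid B] [Algebra.FiniteType k B] :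
    ∃ h : B, h ≠ 0 ∧ (∀ φ : A →ₐ[k] k, ∃ c : k, c ≠ 0 ∧ Comod.act k A B φ h = c • h) ∧
      ∀ a b : B, b ≠ 0 → (∀ φ : A →ₐ[k] k, Comod.act k A B φ a * b = a * Comod.act k A B φ b) →
        ∃ (c d : B) (r t : ℕ), d ≠ 0 ∧
          (∀ φ : A →ₐ[k] k, Comod.act k A B φ c * h ^ r = c * (Comod.act k A B φ h) ^ r) ∧
          (∀ φ : A →ₐ[k] k, Comod.act k A B φ d * h ^ t = d * (Comod.act k A B φ h) ^ t) ∧
          a * d * h ^ r = b * c * h ^ t := by
  have hess : Algebra.EssFiniteType k (FractionRing B) :=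
    have : Algebra.EssFiniteType B (FractionRing B) := .of_isLocalization _ (nonZeroDivisors B)
    Algebra.EssFiniteType.comp k B _
  obtain ⟨s, hs⟩ := SubFG.exists_adjoin_eq (invField k A B)
  have hsub : ∀ y ∈ s, y ∈ invField k A B := fun y hy => by
    rw [← hs]
    exact IntermediateField.subset_adjoin _ _ hy
  choose! b hb0 hb1 a ha using fun y (hy : y ∈ s) => exists_semi hunits y (hsub y hy)
  let h : B := ∏ y ∈ s, b y
  have hh0 : h ≠ 0 := Finset.prod_ne_zero_iff.2 hb0
  have hh1 : algebraMap B (FractionRing B) h ≠ 0 := by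
    rwa [Ne, FaithfulSMul.algebraMap_eq_zero_iff]
  have hsemi : ∀ φ : A →ₐ[k] k, ∃ c : k, c ≠ 0 ∧ Comod.act k A B φ h = c • h := by
    intro φ
    choose! c hc0 hc1 using fun y (hy : y ∈ s) => hb1 y hy φ
    refine ⟨∏ y ∈ s, c y, Finset.prod_ne_zero_iff.2 hc0, ?_⟩
    have h1 : Comod.act k A B φ h = ∏ y ∈ s, Comod.act k A B φ (b y) := map_prod (actHom φ) _ _
    rw [h1, Finset.prod_congr rfl hc1, Finset.prod_smul]
  refine ⟨h, hh0, hsemi, fun f g hg0 hinv => ?_⟩
  have key : ∀ y ∈ Algebra.adjoin k (s : Set (FractionRing B)), ∃ (c : B) (r : ℕ),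
      y * algebraMap B (FractionRing B) h ^ r = algebraMap B (FractionRing B) c := by
    intro y hy
    induction hy using Algebra.adjoin_induction with
    | mem y hy =>
      refine ⟨a y * ∏ z ∈ s.erase y, b z, 1, ?_⟩
      have h1 : h = b y * ∏ z ∈ s.erase y, b z := (Finset.mul_prod_erase s b hy).symm
      rw [pow_one, h1, map_mul, ← mul_assoc, ha y hy, ← map_mul]
    | algebraMap c => exact ⟨algebraMap k B c, 0, by
        rw [pow_zero, mul_one, ← IsScalarTower.algebraMap_apply]⟩
    | add y y' _ _ hy hy' =>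
      obtain ⟨c, r, h1⟩ := hy
      obtain ⟨c', r', h2⟩ := hy'
      refine ⟨c * h ^ r' + c' * h ^ r, r + r', ?_⟩
      rw [map_add, map_mul, map_mul, map_pow, map_pow, ← h1, ← h2]
      ring
    | mul y y' _ _ hy hy' =>
      obtain ⟨c, r, h1⟩ := hy
      obtain ⟨c', r', h2⟩ := hy'
      refine ⟨c * c', r + r', ?_⟩
      rw [map_mul, ← h1, ← h2]
      ring
  have hadj : ∀ y ∈ Algebra.adjoin k (s : Set (FractionRing B)), y ∈ invField k A B := by
    intro y hy
    rw [← hs]
    exact IntermediateField.algebra_adjoin_le_adjoin _ _ hy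
  have hinvc : ∀ (y : FractionRing B) (c : B) (r : ℕ), y ∈ invField k A B →
      y * algebraMap B (FractionRing B) h ^ r = algebraMap B (FractionRing B) c →
      ∀ φ : A →ₐ[k] k, Comod.act k A B φ c * h ^ r = c * (Comod.act k A B φ h) ^ r := by
    intro y c r hy hc φ
    have h1 : algebraMap B (FractionRing B) c / algebraMap B (FractionRing B) (h ^ r) = y := by
      rw [← hc, map_pow, mul_div_cancel_right₀ _ (pow_ne_zero r hh1)]
    rw [← h1] at hy
    rw [← act_pow]
    exact (div_mem_invField c (h ^ r) (pow_ne_zero r hh0)).1 hy φ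
  have hg1 : algebraMap B (FractionRing B) g ≠ 0 := by
    rwa [Ne, FaithfulSMul.algebraMap_eq_zero_iff]
  have hy := (div_mem_invField f g hg0).2 hinv
  rw [← hs, IntermediateField.mem_adjoin_iff_div] at hy
  obtain ⟨P, hP, Q, hQ, hPQ⟩ := hy
  by_cases hQ0 : Q = 0
  · have hf : f = 0 := by
      rw [hQ0, div_zero, div_eq_zero_iff] at hPQ
      exact (FaithfulSMul.algebraMap_eq_zero_iff B (FractionRing B)).1 (hPQ.resolve_right hg1)
    refine ⟨0, 1, 0, 0, one_ne_zero, fun φ => by simp, fun φ => ?_, by rw [hf]; simp⟩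
    rw [act_of_mem_invariants (one_mem _)]
    simp
  · obtain ⟨c, r, hc⟩ := key P hP
    obtain ⟨d, t, hd⟩ := key Q hQ
    refine ⟨c, d, r, t, ?_, hinvc P c r (hadj P hP) hc, hinvc Q d t (hadj Q hQ) hd, ?_⟩
    · rintro rfl
      rw [map_zero] at hd
      exact (mul_ne_zero hQ0 (pow_ne_zero t hh1)) hd
    · apply IsFractionRing.injective B (FractionRing B)
      rw [div_eq_div_iff hg1 hQ0] at hPQ
      simp only [map_mul, map_pow]
      rw [← hc, ← hd]
      linear_combination (algebraMap B (FractionRing B) h ^ r *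
        algebraMap B (FractionRing B) h ^ t) * hPQ

end K764.FieldInv
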