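import Groth.Agent.Books.ComodInv
import Groth.Prelude.Def_W4c1tameactTame
import Mathlib.RingTheory.HopfAlgebra.Convolution
import Mathlib.RingTheory.Ideal.Colon

/-!
# Comodules and relative Hopf modules: the twist of `V ⊗ A`, stable submodules, induced structures

* `Phi`, `Psi`: the mutually inverse automorphisms `v ⊗ a ↦ ρ(v)(1 ⊗ a)`, `v ⊗ a ↦ (id ⊗ S)ρ(v)(1 ⊗ a)` of `V ⊗ A`;
* `subC`, `quotC`: comodule structures induced along injective and surjective linear maps;
* `isHopfMod_of_injective`, `isHopfMod_of_surjective`;
* `isSubcomod_smul`, `isSubcomod_span`, `isSubcomod_colon`: stability of `I • N`, of spans, of colon ideals.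
-/

set_option autoImplicit false

universe u v w w' w''

open TensorProduct HopfRep

namespace K764.HopfMod

open Groth.Agent.Books.ComodBasic Groth.Agent.Books.ComodHom Groth.Agent.Books.ComodInv

section Tensor

variable {k : Type u} {A : Type v} {V : Type w} {W : Type w'} [Field k]
  [AddCommGroup V] [Module k V] [AddCommGroup W] [Module k W]

section
variable [AddCommGroup A] [Module k A]

/-- `W ⊗ A` as a subspace of `V ⊗ A`. -/
abbrev rng (A : Type v) [AddCommGroup A] [Module k A] (W : Submodule k V) :
    Submodule k (V ⊗[k] A) :=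
  LinearMap.range (W.subtype.rTensor A)

lemma tmul_mem_rng {W : Submodule k V} {v : V} (hv : v ∈ W) (a : A) : v ⊗ₜ[k] a ∈ rng A W :=
  ⟨⟨v, hv⟩ ⊗ₜ[k] a, by simp⟩

lemma rng_induction {W : Submodule k V} {p : (z : V ⊗[k] A) → z ∈ rng A W → Prop}
    (h0 : p 0 (zero_mem _))
    (ht : ∀ v (hv : v ∈ W) (a : A), p (v ⊗ₜ[k] a) (tmul_mem_rng hv a))
    (ha : ∀ x hx y hy, p x hx → p y hy → p (x + y) (add_mem hx hy))
    {z : V ⊗[k] A} (hz : z ∈ rng A W) : p z hz := by
  obtain ⟨y, rfl⟩ := hz
  induction y with
  | zero => simpa using h0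
  | tmul v a => simpa using ht v v.2 a
  | add x y hx hy => simpa using ha _ _ _ _ hx hy

lemma rng_mono {W₁ W₂ : Submodule k V} (h : W₁ ≤ W₂) : rng A W₁ ≤ rng A W₂ := by
  intro z hz
  induction hz using rng_induction with
  | h0 => exact zero_mem _
  | ht v hv a => exact tmul_mem_rng (h hv) a
  | ha x _ y _ hx hy => exact add_mem hx hy

end

variable [CommRing A] [Algebra k A]

/-- Right multiplication by `a` on `V ⊗ A`. -/
noncomputable def rmul (V : Type w) [AddCommGroup V] [Module k V] (a : A) :
    V ⊗[k] A →ₗ[k] V ⊗[k] A := LinearMap.lTensor V (LinearMap.mulRight k a)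

@[simp] lemma rmul_tmul (a a' : A) (v : V) : rmul V a (v ⊗ₜ[k] a') = v ⊗ₜ[k] (a' * a) := by
  simp [rmul]

lemma rmul_mem_rng {W : Submodule k V} (a : A) {z : V ⊗[k] A} (hz : z ∈ rng A W) :
    rmul V a z ∈ rng A W := by
  induction hz using rng_induction with
  | h0 => simp
  | ht v hv a' => rw [rmul_tmul]; exact tmul_mem_rng hv _
  | ha x _ y _ hx hy => rw [map_add]; exact add_mem hx hy

lemma rmul_one (z : V ⊗[k] A) : rmul V (1 : A) z = z := by
  induction z with
  | zero => simp
  | tmul v a => simp
  | add x y hx hy => rw [map_add, hx, hy]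

lemma rmul_rmul (a b : A) (z : V ⊗[k] A) : rmul V b (rmul V a z) = rmul V (a * b) z := by
  induction z with
  | zero => simp
  | tmul v a => simp [mul_assoc]
  | add x y hx hy => rw [map_add, map_add, map_add, hx, hy]

lemma rmul_add (a b : A) (z : V ⊗[k] A) : rmul V (a + b) z = rmul V a z + rmul V b z := by
  induction z with
  | zero => simp
  | tmul v a => simp [mul_add, tmul_add]
  | add x y hx hy => rw [map_add, map_add, map_add, hx, hy]; abel

lemma rTensor_rmul (f : V →ₗ[k] W) (a : A) (z : V ⊗[k] A) :
    f.rTensor A (rmul V a z) = rmul W a (f.rTensor A z) := by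
  induction z with
  | zero => simp
  | tmul v a => simp
  | add x y hx hy => simp only [map_add, hx, hy]

end Tensor

section Phi

variable {k : Type u} {A : Type v} [Field k] [CommRing A] [HopfAlgebra k A]
  (V : Type w) [AddCommGroup V] [Module k V] [Comod k A V]

/-- `v ⊗ a ↦ ρ(v)(1 ⊗ a)`. -/
noncomputable def Phi : V ⊗[k] A →ₗ[k] V ⊗[k] A :=
  LinearMap.lTensor V (LinearMap.mul' k A) ∘ₗ (TensorProduct.assoc k V A A).toLinearMap ∘ₗ
    LinearMap.rTensor A (Comod.coact (k := k) (A := A))

/-- `v ⊗ a ↦ (id ⊗ S)(ρ(v))(1 ⊗ a)`. -/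
noncomputable def Psi : V ⊗[k] A →ₗ[k] V ⊗[k] A :=
  LinearMap.lTensor V (LinearMap.mul' k A) ∘ₗ (TensorProduct.assoc k V A A).toLinearMap ∘ₗ
    LinearMap.rTensor A (LinearMap.lTensor V (HopfAlgebraStruct.antipode k) ∘ₗ
      Comod.coact (k := k) (A := A))

variable {V}

omit [Comod k A V] in
lemma mul'_assoc_tmul (z : V ⊗[k] A) (a : A) :
    LinearMap.lTensor V (LinearMap.mul' k A) ((TensorProduct.assoc k V A A) (z ⊗ₜ[k] a)) =
      rmul V a z := by
  induction z with
  | zero => simp
  | tmul v a => simp
  | add x y hx hy => rw [add_tmul, map_add, map_add, map_add, hx, hy]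

lemma Phi_tmul (v : V) (a : A) :
    Phi V (v ⊗ₜ[k] a) = rmul V a (Comod.coact (k := k) (A := A) v) := by
  simp only [Phi, LinearMap.comp_apply, LinearMap.rTensor_tmul, LinearEquiv.coe_coe,
    mul'_assoc_tmul]

lemma Psi_tmul (v : V) (a : A) :
    Psi V (v ⊗ₜ[k] a) = rmul V a (LinearMap.lTensor V (HopfAlgebraStruct.antipode k)
      (Comod.coact (k := k) (A := A) v)) := by
  simp only [Psi, LinearMap.comp_apply, LinearMap.rTensor_tmul, LinearEquiv.coe_coe,
    mul'_assoc_tmul]

lemma coassoc_apply (v : V) :
    TensorProduct.assoc k V A A ((Comod.coact (k := k) (A := A)).rTensor A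
      (Comod.coact (k := k) (A := A) v)) =
    (CoalgebraStruct.comul (R := k) (A := A)).lTensor V (Comod.coact (k := k) (A := A) v) :=
  LinearMap.congr_fun (Comod.coassoc (k := k) (A := A) (V := V)) v

lemma counit_apply (v : V) :
    (CoalgebraStruct.counit (R := k) (A := A)).lTensor V (Comod.coact (k := k) (A := A) v) =
      v ⊗ₜ[k] (1 : k) :=
  LinearMap.congr_fun (Comod.counit_comp (k := k) (A := A) (V := V)) v

/-- Applying a linear map `g : A ⊗ A → X` after the iterated coaction. -/
lemma lTensor_coassoc {X : Type w'} [AddCommGroup X] [Module k X] (g : A ⊗[k] A →ₗ[k] X) (v : V) :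
    LinearMap.lTensor V g (TensorProduct.assoc k V A A ((Comod.coact (k := k) (A := A)).rTensor A
      (Comod.coact (k := k) (A := A) v))) =
    LinearMap.lTensor V (g ∘ₗ CoalgebraStruct.comul (R := k) (A := A))
      (Comod.coact (k := k) (A := A) v) := by
  rw [coassoc_apply, LinearMap.lTensor_comp, LinearMap.comp_apply]

lemma lTensor_counit_smul {X : Type w'} [AddCommGroup X] [Module k X] (x : X) (v : V) :
    LinearMap.lTensor V ((LinearMap.toSpanSingleton k X x) ∘ₗ
      CoalgebraStruct.counit (R := k) (A := A)) (Comod.coact (k := k) (A := A) v) = v ⊗ₜ[k] x := by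
  rw [LinearMap.lTensor_comp, LinearMap.comp_apply, counit_apply]
  simp

lemma Phi_Psi (z : V ⊗[k] A) : Phi V (Psi V z) = z := by
  induction z with
  | zero => simp
  | add x y hx hy => rw [map_add, map_add, hx, hy]
  | tmul v a =>
    let g : A ⊗[k] A →ₗ[k] A := LinearMap.mul' k A ∘ₗ
      LinearMap.lTensor A (LinearMap.mulRight k a ∘ₗ HopfAlgebraStruct.antipode k)
    have h1 : ∀ z : V ⊗[k] A, Phi V (rmul V a (LinearMap.lTensor V (HopfAlgebraStruct.antipode k) z))
        = LinearMap.lTensor V g (TensorProduct.assoc k V A A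
          ((Comod.coact (k := k) (A := A)).rTensor A z)) := by
      intro z
      induction z with
      | zero => simp
      | add x y hx hy => simp only [map_add, hx, hy]
      | tmul v' a' =>
        rw [LinearMap.lTensor_tmul, rmul_tmul, Phi_tmul, LinearMap.rTensor_tmul]
        generalize Comod.coact (k := k) (A := A) v' = w
        induction w with
        | zero => simp
        | add x y hx hy => simp only [map_add, hx, hy, add_tmul]
        | tmul v'' a'' => simp [g]
    rw [Psi_tmul, h1, lTensor_coassoc]
    have h2 : g ∘ₗ CoalgebraStruct.comul (R := k) (A := A) =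
        (LinearMap.toSpanSingleton k A a) ∘ₗ CoalgebraStruct.counit (R := k) (A := A) := by
      refine LinearMap.ext fun x => ?_
      have h3 := HopfAlgebra.mul_antipode_lTensor_comul_apply (R := k) x
      have h4 : ∀ y : A ⊗[k] A, g y = LinearMap.mul' k A
          (LinearMap.lTensor A (HopfAlgebraStruct.antipode k) y) * a := by
        intro y
        induction y with
        | zero => simp
        | add x y hx hy => simp only [map_add, hx, hy, add_mul]
        | tmul x y => simp [g, mul_assoc]
      rw [LinearMap.comp_apply, h4]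
      erw [h3]
      simp [Algebra.smul_def]
    rw [h2, lTensor_counit_smul]

lemma Psi_Phi (z : V ⊗[k] A) : Psi V (Phi V z) = z := by
  induction z with
  | zero => simp
  | add x y hx hy => rw [map_add, map_add, hx, hy]
  | tmul v a =>
    let g : A ⊗[k] A →ₗ[k] A := LinearMap.mul' k A ∘ₗ
      TensorProduct.map (HopfAlgebraStruct.antipode k) (LinearMap.mulRight k a)
    have h1 : ∀ z : V ⊗[k] A, Psi V (rmul V a z)
        = LinearMap.lTensor V g (TensorProduct.assoc k V A A
          ((Comod.coact (k := k) (A := A)).rTensor A z)) := by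
      intro z
      induction z with
      | zero => simp
      | add x y hx hy => simp only [map_add, hx, hy]
      | tmul v' a' =>
        rw [rmul_tmul, Psi_tmul, LinearMap.rTensor_tmul]
        generalize Comod.coact (k := k) (A := A) v' = w
        induction w with
        | zero => simp
        | add x y hx hy => simp only [map_add, hx, hy, add_tmul]
        | tmul v'' a'' => simp [g]
    rw [Phi_tmul, h1, lTensor_coassoc]
    have h2 : g ∘ₗ CoalgebraStruct.comul (R := k) (A := A) =
        (LinearMap.toSpanSingleton k A a) ∘ₗ CoalgebraStruct.counit (R := k) (A := A) := by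
      refine LinearMap.ext fun x => ?_
      have h3 := HopfAlgebra.mul_antipode_rTensor_comul_apply (R := k) x
      have h4 : ∀ y : A ⊗[k] A, g y = LinearMap.mul' k A
          (LinearMap.rTensor A (HopfAlgebraStruct.antipode k) y) * a := by
        intro y
        induction y with
        | zero => simp
        | add x y hx hy => simp only [map_add, hx, hy, add_mul]
        | tmul x y => simp [g, mul_assoc]
      rw [LinearMap.comp_apply, h4]
      erw [h3]
      simp [Algebra.smul_def]
    rw [h2, lTensor_counit_smul]

lemma Psi_tmul_mem_rng {W : Submodule k V} (hW : IsSubcomod (k := k) (A := A) W) {v : V}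
    (hv : v ∈ W) (a : A) : Psi V (v ⊗ₜ[k] a) ∈ rng A W := by
  rw [Psi_tmul]
  refine rmul_mem_rng a ?_
  have h := hW v hv
  generalize Comod.coact (k := k) (A := A) v = z at h ⊢
  induction h using rng_induction with
  | h0 => simp
  | ht v hv a' => rw [LinearMap.lTensor_tmul]; exact tmul_mem_rng hv _
  | ha x _ y _ hx hy => rw [map_add]; exact add_mem hx hy

end Phi

section Induced

variable {k : Type u} {A : Type v} [Field k] [AddCommGroup A] [Module k A] [Coalgebra k A]
variable {V : Type w} [AddCommGroup V] [Module k V] [Comod k A V]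
variable {X : Type w'} [AddCommGroup X] [Module k X]

/-- The comodule structure on `X` for an injective map `X → V` whose range is a subcomodule. -/
@[reducible] noncomputable def subC (f : X →ₗ[k] V) (hf : Function.Injective f)
    (h : IsSubcomod (k := k) (A := A) (LinearMap.range f)) : Comod k A X :=
  let e := LinearEquiv.ofInjective f hf
  comodOfInjective f hf (e.symm.toLinearMap.rTensor A ∘ₗ subCoact (LinearMap.range f) h ∘ₗ
    e.toLinearMap) (by
      intro x
      have h1 : ∀ z : (LinearMap.range f) ⊗[k] A, f.rTensor A (e.symm.toLinearMap.rTensor A z) =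
          (LinearMap.range f).subtype.rTensor A z := by
        intro z
        induction z with
        | zero => simp
        | add x y hx hy => simp only [map_add, hx, hy]
        | tmul v a =>
          simp only [LinearMap.rTensor_tmul, LinearEquiv.coe_coe, Submodule.subtype_apply]
          congr 1
          exact congrArg Subtype.val (e.apply_symm_apply v)
      rw [LinearMap.comp_apply, LinearMap.comp_apply, h1, rTensor_subtype_subCoact]
      rfl)

lemma isComodHom_subC (f : X →ₗ[k] V) (hf : Function.Injective f)
    (h : IsSubcomod (k := k) (A := A) (LinearMap.range f)) :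
    letI := subC f hf h
    IsComodHom k A f := by
  intro w
  let e := LinearEquiv.ofInjective f hf
  have h1 : ∀ z : (LinearMap.range f) ⊗[k] A, f.rTensor A (e.symm.toLinearMap.rTensor A z) =
      (LinearMap.range f).subtype.rTensor A z := by
    intro z
    induction z with
    | zero => simp
    | add x y hx hy => simp only [map_add, hx, hy]
    | tmul v a =>
      simp only [LinearMap.rTensor_tmul, LinearEquiv.coe_coe, Submodule.subtype_apply]
      congr 1
      exact congrArg Subtype.val (e.apply_symm_apply v)
  change _ = f.rTensor A (e.symm.toLinearMap.rTensor A (subCoact (LinearMap.range f) h (e w)))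
  rw [h1, rTensor_subtype_subCoact]
  rfl

/-- The comodule structure on `X` for a surjective map `V → X` whose kernel is a subcomodule. -/
@[reducible] noncomputable def quotC (f : V →ₗ[k] X) (hf : Function.Surjective f)
    (h : IsSubcomod (k := k) (A := A) (LinearMap.ker f)) : Comod k A X :=
  let e := f.quotKerEquivOfSurjective hf
  comodOfSurjective f hf (e.toLinearMap.rTensor A ∘ₗ quotCoact (LinearMap.ker f) h ∘ₗ
    e.symm.toLinearMap) (by
      intro v
      have h1 : ∀ z : V ⊗[k] A, e.toLinearMap.rTensor A ((LinearMap.ker f).mkQ.rTensor A z) =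
          f.rTensor A z := by
        intro z
        induction z with
        | zero => simp
        | add x y hx hy => simp only [map_add, hx, hy]
        | tmul v a =>
          simp only [LinearMap.rTensor_tmul, LinearEquiv.coe_coe]
          rfl
      have h2 : e.symm (f v) = (LinearMap.ker f).mkQ v := by
        rw [LinearEquiv.symm_apply_eq]
        rfl
      rw [LinearMap.comp_apply, LinearMap.comp_apply, LinearEquiv.coe_coe, h2, quotCoact_mk, h1])

lemma isComodHom_quotC (f : V →ₗ[k] X) (hf : Function.Surjective f)
    (h : IsSubcomod (k := k) (A := A) (LinearMap.ker f)) :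
    letI := quotC f hf h
    IsComodHom k A f := by
  intro v
  let e := f.quotKerEquivOfSurjective hf
  have h1 : ∀ z : V ⊗[k] A, e.toLinearMap.rTensor A ((LinearMap.ker f).mkQ.rTensor A z) =
      f.rTensor A z := by
    intro z
    induction z with
    | zero => simp
    | add x y hx hy => simp only [map_add, hx, hy]
    | tmul v a =>
      simp only [LinearMap.rTensor_tmul, LinearEquiv.coe_coe]
      rfl
  have h2 : e.symm (f v) = (LinearMap.ker f).mkQ v := by
    rw [LinearEquiv.symm_apply_eq]
    rfl
  change e.toLinearMap.rTensor A (quotCoact (LinearMap.ker f) h (e.symm (f v))) = _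
  rw [h2, quotCoact_mk, h1]

end Induced

section Hopf

variable {k : Type u} {A : Type v} [Field k] [CommRing A] [HopfAlgebra k A]
variable {B : Type w} [CommRing B] [Algebra k B] [Comod k A B]
variable {M : Type w'} [AddCommGroup M] [Module k M] [Module B M] [IsScalarTower k B M]
  [Comod k A M]
variable {N : Type w''} [AddCommGroup N] [Module k N] [Module B N] [IsScalarTower k B N]
  [Comod k A N]

open TameAct

omit [Comod k A B] [Comod k A M] [Comod k A N] in
lemma rTensor_hmSMul (f : M →ₗ[k] N) (hf : ∀ (b : B) (m : M), f (b • m) = b • f m)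
    (z : B ⊗[k] A) (z' : M ⊗[k] A) :
    f.rTensor A (hmSMul k A B M z z') = hmSMul k A B N z (f.rTensor A z') := by
  induction z with
  | zero => simp
  | add x y hx hy => simp only [map_add, LinearMap.add_apply, hx, hy]
  | tmul b a =>
    induction z' with
    | zero => simp
    | add x y hx hy => simp only [map_add, hx, hy]
    | tmul m a' => simp [hf]

omit [Comod k A B] [Comod k A M] in
lemma hmSMul_rmul (z : B ⊗[k] A) (a : A) (z' : M ⊗[k] A) :
    hmSMul k A B M z (rmul M a z') = rmul M a (hmSMul k A B M z z') := by
  induction z with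
  | zero => simp
  | add x y hx hy => simp only [map_add, LinearMap.add_apply, hx, hy]
  | tmul b a =>
    induction z' with
    | zero => simp
    | add x y hx hy => simp only [map_add, hx, hy]
    | tmul m a' => simp [mul_assoc]

lemma isHopfMod_of_injective (f : M →ₗ[k] N) (hf : Function.Injective f)
    (hfB : ∀ (b : B) (m : M), f (b • m) = b • f m) (hc : IsComodHom k A f)
    [IsHopfMod k A B N] : IsHopfMod k A B M := by
  refine ⟨fun b m => ?_⟩
  apply Module.Flat.rTensor_preserves_injective_linearMap (M := A) f hf
  rw [rTensor_hmSMul f hfB, ← hc, ← hc, hfB, IsHopfMod.coact_smul]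

lemma isHopfMod_of_surjective (f : M →ₗ[k] N) (hf : Function.Surjective f)
    (hfB : ∀ (b : B) (m : M), f (b • m) = b • f m) (hc : IsComodHom k A f)
    [IsHopfMod k A B M] : IsHopfMod k A B N := by
  refine ⟨fun b n => ?_⟩
  obtain ⟨m, rfl⟩ := hf n
  rw [← hfB, hc, hc, IsHopfMod.coact_smul, rTensor_hmSMul f hfB]

omit [Comod k A B] in
lemma hmSMul_eq_mul (z z' : B ⊗[k] A) : hmSMul k A B B z z' = z * z' := by
  induction z with
  | zero => simp
  | add x y hx hy => simp only [map_add, LinearMap.add_apply, hx, hy, add_mul]
  | tmul b a =>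
    induction z' with
    | zero => simp
    | add x y hx hy => simp only [map_add, hx, hy, mul_add]
    | tmul m a' => simp

lemma isHopfMod_self [GLin.IsCoactAlg k A B] : IsHopfMod k A B B :=
  ⟨fun b m => by rw [smul_eq_mul, GLin.IsCoactAlg.coact_mul, hmSMul_eq_mul]⟩

omit [Comod k A B] [Comod k A M] in
lemma hmSMul_mem_rng_smul {I : Ideal B} {P : Submodule B M} {z : B ⊗[k] A} {z' : M ⊗[k] A}
    (hz : z ∈ rng A (I.restrictScalars k)) (hz' : z' ∈ rng A (P.restrictScalars k)) :
    hmSMul k A B M z z' ∈ rng A ((I • P).restrictScalars k) := by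
  induction hz using rng_induction with
  | h0 => simp
  | ha x _ y _ hx hy => rw [map_add, LinearMap.add_apply]; exact add_mem hx hy
  | ht b hb a =>
    induction hz' using rng_induction with
    | h0 => simp
    | ha x _ y _ hx hy => rw [map_add]; exact add_mem hx hy
    | ht m hm a' =>
      rw [hmSMul_tmul]
      exact tmul_mem_rng (Submodule.smul_mem_smul hb hm) _

omit [Comod k A B] [Comod k A M] in
lemma hmSMul_mem_rng (z : B ⊗[k] A) {P : Submodule B M} {z' : M ⊗[k] A}
    (hz' : z' ∈ rng A (P.restrictScalars k)) :
    hmSMul k A B M z z' ∈ rng A (P.restrictScalars k) := by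
  induction z with
  | zero => simp
  | add x y hx hy => rw [map_add, LinearMap.add_apply]; exact add_mem hx hy
  | tmul b a =>
    induction hz' using rng_induction with
    | h0 => simp
    | ha x _ y _ hx hy => rw [map_add]; exact add_mem hx hy
    | ht m hm a' =>
      rw [hmSMul_tmul]
      exact tmul_mem_rng (P.smul_mem b hm) _

/-- A `B`-submodule spanned by a set of elements with coactions in `P ⊗ A` is a subcomodule. -/
lemma isSubcomod_span [IsHopfMod k A B M] {P : Submodule B M} (s : Set M)
    (hP : Submodule.span B s = P)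
    (hs : ∀ m ∈ s, Comod.coact (k := k) (A := A) m ∈ rng A (P.restrictScalars k)) :
    IsSubcomod (k := k) (A := A) (P.restrictScalars k) := by
  intro m hm
  change m ∈ P at hm
  rw [← hP] at hm
  induction hm using Submodule.span_induction with
  | mem x hx => exact hs x hx
  | zero => rw [map_zero]; exact zero_mem _
  | add x y _ _ hx hy => rw [map_add]; exact add_mem hx hy
  | smul b x _ hx =>
    rw [IsHopfMod.coact_smul (B := B)]
    exact hmSMul_mem_rng _ hx

/-- The `B`-submodule spanned by a set of fixed vectors is a subcomodule. -/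
lemma isSubcomod_span_of_fixed [IsHopfMod k A B M] (s : Set M)
    (hs : s ⊆ (fixedPts k A M : Set M)) :
    IsSubcomod (k := k) (A := A) ((Submodule.span B s).restrictScalars k) := by
  refine isSubcomod_span s rfl fun m hm => ?_
  have h1 : m ∈ fixedPts k A M := hs hm
  rw [mem_fixedPts_iff] at h1
  rw [h1]
  exact tmul_mem_rng (W := (Submodule.span B s).restrictScalars k)
    (Submodule.subset_span (R := B) hm) _

/-- `I • P` is stable when `I` and `P` are. -/
lemma isSubcomod_smul [IsHopfMod k A B M] {I : Ideal B} {P : Submodule B M}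
    (hI : IsSubcomod (k := k) (A := A) (I.restrictScalars k))
    (hP : IsSubcomod (k := k) (A := A) (P.restrictScalars k)) :
    IsSubcomod (k := k) (A := A) ((I • P).restrictScalars k) := by
  intro m hm
  change m ∈ I • P at hm
  refine Submodule.smul_induction_on (p := fun m => Comod.coact (k := k) (A := A) m ∈
    rng A ((I • P).restrictScalars k)) hm ?_ ?_
  · intro b hb m hm
    rw [IsHopfMod.coact_smul (B := B)]
    exact hmSMul_mem_rng_smul (hI b hb) (hP m hm)
  · intro x y hx hy
    rw [map_add]
    exact add_mem hx hy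

/-- Colon ideals of stable submodules are stable (predicate form). -/
lemma isSubcomod_colon [IsHopfMod k A B M] {P Q : Submodule B M}
    (hP : IsSubcomod (k := k) (A := A) (P.restrictScalars k))
    (hQ : IsSubcomod (k := k) (A := A) (Q.restrictScalars k)) (J : Ideal B)
    (hJ : ∀ b, b ∈ J ↔ ∀ m ∈ Q, b • m ∈ P) :
    IsSubcomod (k := k) (A := A) (J.restrictScalars k) := by
  intro b hb
  change b ∈ J at hb
  rw [hJ] at hb
  have key : ∀ z ∈ rng A (Q.restrictScalars k),
      hmSMul k A B M (Comod.coact (k := k) (A := A) b) (Phi M z) ∈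
        rng A (P.restrictScalars k) := by
    intro z hz
    induction hz using rng_induction with
    | h0 => simp
    | ha x _ y _ hx hy => simp only [map_add]; exact add_mem hx hy
    | ht m hm a =>
      rw [Phi_tmul, hmSMul_rmul, ← IsHopfMod.coact_smul]
      exact rmul_mem_rng a (hP _ (hb m hm))
  rw [mem_range_rTensor_iff]
  intro φ
  change slice B φ _ ∈ J
  rw [hJ]
  intro m hm
  have h1 := key (Psi M (m ⊗ₜ[k] (1 : A))) (Psi_tmul_mem_rng hQ hm 1)
  rw [Phi_Psi, mem_range_rTensor_iff] at h1
  have h2 := h1 φ
  have h3 : ∀ z : B ⊗[k] A, slice M φ (hmSMul k A B M z (m ⊗ₜ[k] (1 : A))) = slice B φ z • m := by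
    intro z
    induction z with
    | zero => simp
    | add x y hx hy => simp only [map_add, LinearMap.add_apply, hx, hy, add_smul]
    | tmul b a => simp [smul_assoc]
  rw [h3] at h2
  exact h2

end Hopf

end K764.HopfMod
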