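import Groth.Agent.GLin.K765.Tr
import Groth.Agent.GLin.K765.Rey
import Groth.Agent.GLin.K765.Closed

/-!
# Thickenings of closed orbits under finite equivariant morphisms

`G = Spec A` connected linearly reductive over an algebraically closed field, `S → R` finite and equivariant, `x` a
rational point of `Spec R` with closed orbit, image `y`, such that `S → R` is étale at `x` (only: unramified and
flat) and the stabiliser of `y` fixes `x`.  With `N` the ideal of `S` generated by the invariants vanishing at `y`: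

* `exists_sub_mem`: every `r : R` is congruent to an element of `S` modulo
  `Jset = {r | ∃ u invariant, x u ≠ 0, u r ∈ N ^ j R}`;
* `mem_pow_of_mem`: an element of `S` in `Jset` is in `N ^ j`;
* `exists_invariant_sub_mem`: the version of the first statement for invariants.
-/

set_option autoImplicit false
set_option linter.unusedSectionVars false

universe u v w

open TensorProduct HopfRep GLin

namespace K764.LunaFin

open K765.Basic K765.Tr K765.Rey K765.Closed

section Sep

variable {k : Type u} {A : Type u} [Field k] [IsAlgClosed k] [CommRing A] [HopfAlgebra k A]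
  [Algebra.FiniteType k A]
variable {R : Type u} [CommRing R] [Algebra k R] [Algebra.FiniteType k R] [Comod k A R]
  [IsCoactAlg k A R]

/-- A stable ideal either is contained in the ideal of the point `x` with closed orbit or contains an
invariant which is `1` at `x`. -/
theorem sep (hG : IsLinearlyReductive k A) {x : R →ₐ[k] k} (hx : IsClosedOrbit k A x) (I : Ideal R)
    (hI : IsSubcomod (k := k) (A := A) (I.restrictScalars k)) (hne : ¬ I ≤ RingHom.ker x) :
    ∃ a ∈ invariants k A R, a ∈ I ∧ x a = 1 := by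
  have htop : I ⊔ RingHom.ker (orbitHom k A x) = ⊤ := by
    by_contra hcon
    obtain ⟨z, hz⟩ := K690.Orbits.exists_point_of_ne_top (k := k) _ hcon
    obtain ⟨g, rfl⟩ := K690.Orbits.exists_actPt_of_ker_le hx (le_sup_right.trans hz)
    apply hne
    intro f hf
    have h1 := tr_mem_of_isSubcomod_ideal hI (inv g) hf
    have h2 : actPt k g x (tr R (inv g) f) = 0 := hz (Ideal.mem_sup_left h1)
    rw [← point_tr, tr_tr_inv'] at h2
    exact h2
  obtain ⟨a, ha, haI, ha1⟩ := K690.Orbits.exists_invariant_sub_mem hG I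
    (RingHom.ker (orbitHom k A x)) hI (K690.Orbits.isSubcomod_ker_orbitHom x) htop
  refine ⟨a, ha, haI, ?_⟩
  have h3 := K701.Orbit.ker_orbitHom_le_ker x ha1
  rw [RingHom.mem_ker, map_sub, map_one, sub_eq_zero] at h3
  exact h3.symm

variable (A) in
/-- The ideal generated by the invariants vanishing at `x`. -/
def nul (x : R →ₐ[k] k) : Ideal R := Ideal.span {f | f ∈ invariants k A R ∧ x f = 0}

lemma nul_le_ker (x : R →ₐ[k] k) : nul A x ≤ RingHom.ker x :=
  Ideal.span_le.2 fun _ hf => hf.2

lemma tr_mem_nul_pow (x : R →ₐ[k] k) (j : ℕ) (g : A →ₐ[k] k) {f : R} (hf : f ∈ nul A x ^ j) :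
    tr R g f ∈ nul A x ^ j := by
  have h1 : (nul A x).map (tr R g) = nul A x := by
    rw [nul, Ideal.map_span]
    congr 1
    ext y
    constructor
    · rintro ⟨f, hf, rfl⟩
      rw [show (tr R g) f = f from tr_of_mem_invariants hf.1 g]
      exact hf
    · intro hf
      exact ⟨y, hf, tr_of_mem_invariants hf.1 g⟩
  have h2 : (nul A x ^ j).map (tr R g) = nul A x ^ j := by
    rw [Ideal.map_pow, h1]
  rw [← h2]
  exact Ideal.mem_map_of_mem _ hf

/-- A proper stable ideal containing a power of `nul x` is contained in the ideal of `x`. -/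
theorem le_ker_of_nul_pow_le [IsReduced A] (hG : IsLinearlyReductive k A) {x : R →ₐ[k] k}
    (hx : IsClosedOrbit k A x) (I : Ideal R) (hI : ∀ g : A →ₐ[k] k, ∀ f ∈ I, tr R g f ∈ I) {j : ℕ}
    (hj : nul A x ^ j ≤ I) (hne : I ≠ ⊤) : I ≤ RingHom.ker x := by
  by_contra hcon
  obtain ⟨a, ha, haI, ha1⟩ := sep hG hx I (isSubcomod_ideal_of_tr I hI) hcon
  apply hne
  have h1 : 1 - a ∈ nul A x := Ideal.subset_span ⟨sub_mem (one_mem _) ha, by
    rw [map_sub, map_one, ha1, sub_self]⟩
  have h2 : (1 - a) ^ j ∈ I := hj (Ideal.pow_mem_pow h1 j)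
  have h3 : ∃ c, (1 - a) ^ j = 1 - a * c := by
    clear h2 hj
    induction j with
    | zero => exact ⟨0, by simp⟩
    | succ j ih =>
      obtain ⟨c, hc⟩ := ih
      refine ⟨1 + c - a * c, ?_⟩
      rw [pow_succ, hc]
      ring
  obtain ⟨c, hc⟩ := h3
  rw [Ideal.eq_top_iff_one]
  have h4 : (1 : R) = (1 - a) ^ j + a * c := by rw [hc]; ring
  rw [h4]
  exact I.add_mem h2 (I.mul_mem_right _ haI)

end Sep

section Fin

variable {k : Type u} {A : Type u} [Field k] [IsAlgClosed k] [CommRing A] [HopfAlgebra k A]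
  [Algebra.FiniteType k A]
variable {S : Type u} [CommRing S] [Algebra k S] [Algebra.FiniteType k S] [Comod k A S]
  [IsCoactAlg k A S]
variable {R : Type u} [CommRing R] [Algebra k R] [Algebra.FiniteType k R] [Comod k A R]
  [IsCoactAlg k A R]
variable [Algebra S R] [IsScalarTower k S R]

/-- Invariants integral over `S` are integral over the invariants of `S`. -/
theorem exists_monic (hG : IsLinearlyReductive k A) (he : IsEquiv A (IsScalarTower.toAlgHom k S R))
    {f : R} (hf : f ∈ invariants k A R) (hint : IsIntegral S f) :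
    ∃ p : Polynomial S, p.Monic ∧ (∀ i, p.coeff i ∈ invariants k A S) ∧
      Polynomial.aeval f p = 0 := by
  obtain ⟨p, hp, hpf⟩ := hint
  let p' : Polynomial S := ∑ i ∈ Finset.range (p.natDegree + 1),
    Polynomial.monomial i (rey hG S (p.coeff i))
  have hc : ∀ i, p'.coeff i = rey hG S (p.coeff i) := by
    intro i
    simp only [p', Polynomial.finsetSum_coeff, Polynomial.coeff_monomial]
    rw [Finset.sum_ite_eq']
    split_ifs with h
    · rfl
    · rw [Finset.mem_range, not_lt] at h
      rw [Polynomial.coeff_eq_zero_of_natDegree_lt (by omega), map_zero]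
  have hone : rey hG S (1 : S) = 1 := rey_of_mem_invariants hG (one_mem _)
  have hmon : p'.Monic := by
    refine Polynomial.monic_of_natDegree_le_of_coeff_eq_one p.natDegree ?_ ?_
    · refine Polynomial.natDegree_sum_le_of_forall_le _ _ fun i hi => ?_
      refine (Polynomial.natDegree_monomial_le _).trans ?_
      rw [Finset.mem_range] at hi
      omega
    · rw [hc, ← Polynomial.leadingCoeff, hp.leadingCoeff, hone]
  refine ⟨p', hmon, fun i => ?_, ?_⟩
  · rw [hc]
    exact rey_mem_invariants hG _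
  · have h1 : Polynomial.aeval f p' =
        ∑ i ∈ Finset.range (p.natDegree + 1), rey hG R (algebraMap S R (p.coeff i) * f ^ i) := by
      simp only [p', map_sum, Polynomial.aeval_monomial]
      refine Finset.sum_congr rfl fun i _ => ?_
      rw [rey_mul hG _ (pow_mem hf i)]
      congr 1
      exact map_rey_alg hG he _
    rw [h1, ← map_sum]
    have h2 : ∑ i ∈ Finset.range (p.natDegree + 1), algebraMap S R (p.coeff i) * f ^ i = 0 := by
      rw [← Polynomial.eval₂_eq_sum_range]
      exact hpf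
    rw [h2, map_zero]

variable (x : R →ₐ[k] k)

variable (k A S) in
/-- Elements of `R` in `N ^ j R` locally at `x`. -/
def Jset (j : ℕ) : Ideal R where
  carrier := {r | ∃ u ∈ invariants k A R, x u ≠ 0 ∧
    u * r ∈ (nul A (x.comp (IsScalarTower.toAlgHom k S R)) ^ j).map (algebraMap S R)}
  add_mem' := by
    rintro r s ⟨u, hu, hxu, h1⟩ ⟨v, hv, hxv, h2⟩
    refine ⟨u * v, mul_mem hu hv, by rw [map_mul]; exact mul_ne_zero hxu hxv, ?_⟩
    have : u * v * (r + s) = v * (u * r) + u * (v * s) := by ring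
    rw [this]
    exact Ideal.add_mem _ (Ideal.mul_mem_left _ _ h1) (Ideal.mul_mem_left _ _ h2)
  zero_mem' := ⟨1, one_mem _, by rw [map_one]; exact one_ne_zero, by simp⟩
  smul_mem' := by
    rintro c r ⟨u, hu, hxu, h1⟩
    refine ⟨u, hu, hxu, ?_⟩
    have : u * (c • r) = c * (u * r) := by rw [smul_eq_mul]; ring
    rw [this]
    exact Ideal.mul_mem_left _ _ h1

lemma mem_Jset {j : ℕ} {r : R} : r ∈ Jset k A S x j ↔ ∃ u ∈ invariants k A R, x u ≠ 0 ∧
    u * r ∈ (nul A (x.comp (IsScalarTower.toAlgHom k S R)) ^ j).map (algebraMap S R) := Iff.rfl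

lemma map_le_Jset (j : ℕ) :
    (nul A (x.comp (IsScalarTower.toAlgHom k S R)) ^ j).map (algebraMap S R) ≤ Jset k A S x j :=
  fun r hr => ⟨1, one_mem _, by rw [map_one]; exact one_ne_zero, by rwa [one_mul]⟩

lemma Jset_succ_le_ker (j : ℕ) : Jset k A S x (j + 1) ≤ RingHom.ker x := by
  rintro r ⟨u, -, hxu, h⟩
  have h1 : (nul A (x.comp (IsScalarTower.toAlgHom k S R)) ^ (j + 1)).map (algebraMap S R) ≤
      RingHom.ker x := by
    rw [Ideal.map_le_iff_le_comap]
    refine (Ideal.pow_le_self (Nat.succ_ne_zero j)).trans ?_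
    exact nul_le_ker _
  have h2 := h1 h
  rw [RingHom.mem_ker, map_mul] at h2
  exact (mul_eq_zero.1 h2).resolve_left hxu

lemma tr_mem_map (he : IsEquiv A (IsScalarTower.toAlgHom k S R)) (I : Ideal S)
    (hI : ∀ g : A →ₐ[k] k, ∀ f ∈ I, tr S g f ∈ I) (g : A →ₐ[k] k) {f : R}
    (hf : f ∈ I.map (algebraMap S R)) : tr R g f ∈ I.map (algebraMap S R) := by
  have h1 : I.map (algebraMap S R) ≤ (I.map (algebraMap S R)).comap (tr R g) := by
    rw [Ideal.map_le_iff_le_comap]
    intro s hs
    rw [Ideal.mem_comap, Ideal.mem_comap]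
    have h2 : tr R g (algebraMap S R s) = algebraMap S R (tr S g s) := (map_tr he g s).symm
    rw [h2]
    exact Ideal.mem_map_of_mem _ (hI g s hs)
  exact h1 hf

lemma tr_mem_Jset (he : IsEquiv A (IsScalarTower.toAlgHom k S R)) (j : ℕ) (g : A →ₐ[k] k) {r : R}
    (hr : r ∈ Jset k A S x j) : tr R g r ∈ Jset k A S x j := by
  obtain ⟨u, hu, hxu, h⟩ := hr
  refine ⟨u, hu, hxu, ?_⟩
  have h1 : u * tr R g r = tr R g (u * r) := by
    rw [map_mul, show tr R g u = u from tr_of_mem_invariants hu g]
  rw [h1]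
  exact tr_mem_map he _ (fun g f hf => tr_mem_nul_pow _ j g hf) g h

/-- The only point of `Spec R / (Jset + m_y R)` is `x`. -/
theorem eq_of_le_ker [IsDomain A] (hG : IsLinearlyReductive k A)
    (he : IsEquiv A (IsScalarTower.toAlgHom k S R)) [Algebra.IsIntegral S R]
    (hx : IsClosedOrbit k A x)
    (hinj : ∀ g : A →ₐ[k] k, actPt k g (x.comp (IsScalarTower.toAlgHom k S R)) =
      x.comp (IsScalarTower.toAlgHom k S R) → actPt k g x = x)
    (j : ℕ) (x' : R →ₐ[k] k)
    (hy : x'.comp (IsScalarTower.toAlgHom k S R) = x.comp (IsScalarTower.toAlgHom k S R))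
    (hJ : Jset k A S x j ≤ RingHom.ker x') : x' = x := by
  set y := x.comp (IsScalarTower.toAlgHom k S R) with hydef
  -- the orbit of `x` is in the closure of the orbit of `x'`
  have h1 : RingHom.ker (orbitHom k A x') ≤ RingHom.ker x := by
    by_contra hcon
    obtain ⟨f, hf, hf0, hf1⟩ := sep hG hx _ (K690.Orbits.isSubcomod_ker_orbitHom x') hcon
    have hx'f : x' f = 0 := K701.Orbit.ker_orbitHom_le_ker x' hf0
    obtain ⟨p, hp, hpc, hpf⟩ := exists_monic hG he hf (Algebra.IsIntegral.isIntegral (R := S) f)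
    let P : Polynomial k := p.map y.toRingHom
    have hP : P.Monic := hp.map _
    -- the value of `P` at `f`
    have h2 : Polynomial.aeval f P ∈ (nul A y).map (algebraMap S R) := by
      have h3 : Polynomial.aeval f P = Polynomial.aeval f P - Polynomial.aeval f p := by
        rw [hpf, sub_zero]
      have h4 : P.natDegree = p.natDegree := hp.natDegree_map _
      rw [h3, Polynomial.aeval_eq_sum_range, Polynomial.aeval_eq_sum_range, h4,
        ← Finset.sum_sub_distrib]
      refine Ideal.sum_mem _ fun i _ => ?_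
      rw [Algebra.smul_def, Algebra.smul_def, ← sub_mul, IsScalarTower.algebraMap_apply k S R,
        ← map_sub]
      refine Ideal.mul_mem_right _ _ (Ideal.mem_map_of_mem _ (Ideal.subset_span ⟨?_, ?_⟩))
      · exact sub_mem (algebraMap_mem _ _) (hpc i)
      · rw [map_sub, AlgHom.commutes, Algebra.algebraMap_self_apply]
        rw [Polynomial.coeff_map]
        exact sub_self _
    obtain ⟨P₁, hP₁, hndvd⟩ := Polynomial.exists_eq_pow_rootMultiplicity_mul_and_not_dvd P hP.ne_zero
      0
    rw [Polynomial.C_0, sub_zero] at hP₁ hndvd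
    set e := Polynomial.rootMultiplicity 0 P
    have h5 : f ^ e * Polynomial.aeval f P₁ ∈ (nul A y).map (algebraMap S R) := by
      have h6 : Polynomial.aeval f P = f ^ e * Polynomial.aeval f P₁ := by
        conv_lhs => rw [hP₁]
        rw [map_mul, map_pow, Polynomial.aeval_X]
      rwa [h6] at h2
    have h7 : (Polynomial.aeval f P₁) ^ j ∈ Jset k A S x j := by
      refine ⟨(f ^ e) ^ j, pow_mem (pow_mem hf _) _, ?_, ?_⟩
      · rw [map_pow, map_pow, hf1, one_pow, one_pow]
        exact one_ne_zero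
      · rw [← mul_pow, Ideal.map_pow]
        exact Ideal.pow_mem_pow h5 j
    have h8 := hJ h7
    rw [RingHom.mem_ker, map_pow] at h8
    have h9 : x' (Polynomial.aeval f P₁) = 0 := by
      by_contra h
      exact pow_ne_zero j h h8
    rw [← Polynomial.aeval_algHom_apply, hx'f, Polynomial.aeval_def, Algebra.algebraMap_self,
      Polynomial.eval₂_id, ← Polynomial.coeff_zero_eq_eval_zero] at h9
    exact hndvd (Polynomial.X_dvd_iff.2 h9)
  have h2 : RingHom.ker (orbitHom k A x') ≤ RingHom.ker (orbitHom k A x) :=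
    K701.Orbit.le_ker_orbitHom (K690.Orbits.isSubcomod_ker_orbitHom x') x fun f hf => h1 hf
  -- both contract to the same prime
  have h3 : (RingHom.ker (orbitHom k A x')).comap (algebraMap S R) =
      (RingHom.ker (orbitHom k A x)).comap (algebraMap S R) := by
    have h4 := orbitHom_comp he x'
    have h5 := orbitHom_comp he x
    rw [hy] at h4
    have h6 : (orbitHom k A x').comp (IsScalarTower.toAlgHom k S R) =
      (orbitHom k A x).comp (IsScalarTower.toAlgHom k S R) := h4.symm.trans h5
    ext s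
    have h7 := DFunLike.congr_fun h6 s
    simp only [AlgHom.comp_apply] at h7
    rw [Ideal.mem_comap, Ideal.mem_comap, RingHom.mem_ker, RingHom.mem_ker]
    exact h7 ▸ Iff.rfl
  have h4 : RingHom.ker (orbitHom k A x') = RingHom.ker (orbitHom k A x) := by
    refine le_antisymm h2 fun f hf => ?_
    by_contra hcon
    have hprime : (RingHom.ker (orbitHom k A x')).IsPrime := RingHom.ker_isPrime _
    exact absurd h3 (Ideal.comap_lt_comap_of_integral_mem_sdiff h2 ⟨hf, hcon⟩
      (Algebra.IsIntegral.isIntegral (R := S) f)).ne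
  obtain ⟨g, hg⟩ := K701.Orbit2.exists_actPt_eq_of_ker_eq x x' h4.symm
  rw [hg] at hy ⊢
  exact hinj g ((actPt_comp he g x).trans hy)

/-- `Jset + m_y R = m_x` when `S → R` is unramified at `x`. -/
theorem ker_le_sup [IsDomain A] (hG : IsLinearlyReductive k A)
    (he : IsEquiv A (IsScalarTower.toAlgHom k S R)) [Algebra.IsIntegral S R]
    (hx : IsClosedOrbit k A x)
    (hinj : ∀ g : A →ₐ[k] k, actPt k g (x.comp (IsScalarTower.toAlgHom k S R)) =
      x.comp (IsScalarTower.toAlgHom k S R) → actPt k g x = x)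
    (hunr : ∀ r : R, x r = 0 → ∃ s : R, x s ≠ 0 ∧
      s * r ∈ (RingHom.ker (x.comp (IsScalarTower.toAlgHom k S R))).map (algebraMap S R)) (j : ℕ) :
    RingHom.ker x ≤ Jset k A S x j ⊔
      (RingHom.ker (x.comp (IsScalarTower.toAlgHom k S R))).map (algebraMap S R) := by
  intro r hr
  set L := Jset k A S x j ⊔
      (RingHom.ker (x.comp (IsScalarTower.toAlgHom k S R))).map (algebraMap S R) with hL
  let C : Ideal R := Submodule.comap (LinearMap.mulRight R r : R →ₗ[R] R) L
  have hC : ∀ s, s ∈ C ↔ s * r ∈ L := fun s => Iff.rfl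
  by_contra hrL
  have hC1 : C ≠ ⊤ := by
    intro h
    apply hrL
    have h1 : (1 : R) ∈ C := by rw [h]; trivial
    rwa [hC, one_mul] at h1
  obtain ⟨x', hx'⟩ := K690.Orbits.exists_point_of_ne_top (k := k) C hC1
  have hLC : L ≤ C := fun s hs => (hC s).2 (L.mul_mem_right _ hs)
  have hxx : x' = x := by
    refine eq_of_le_ker x hG he hx hinj j x' ?_ ((le_sup_left.trans hLC).trans hx')
    refine (K701.Dim.eq_of_ker_le fun s hs => ?_).symm
    exact ((le_sup_right.trans hLC).trans hx') (Ideal.mem_map_of_mem _ hs)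
  obtain ⟨s, hs, hsr⟩ := hunr r hr
  have h1 : s ∈ C := (hC s).2 (Ideal.mem_sup_right hsr)
  have h2 := hx' h1
  rw [hxx] at h2
  exact hs h2

/-- **Surjectivity.** -/
theorem exists_sub_mem [IsDomain A] (hG : IsLinearlyReductive k A)
    (he : IsEquiv A (IsScalarTower.toAlgHom k S R)) [Module.Finite S R]
    (hx : IsClosedOrbit k A x)
    (hinj : ∀ g : A →ₐ[k] k, actPt k g (x.comp (IsScalarTower.toAlgHom k S R)) =
      x.comp (IsScalarTower.toAlgHom k S R) → actPt k g x = x)
    (hunr : ∀ r : R, x r = 0 → ∃ s : R, x s ≠ 0 ∧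
      s * r ∈ (RingHom.ker (x.comp (IsScalarTower.toAlgHom k S R))).map (algebraMap S R)) (j : ℕ)
    (r : R) : ∃ s : S, r - algebraMap S R s ∈ Jset k A S x j := by
  set y := x.comp (IsScalarTower.toAlgHom k S R) with hydef
  let T : Submodule S R := LinearMap.range (Algebra.linearMap S R) ⊔
    (Jset k A S x j).restrictScalars S
  have hT : ∀ r : R, r ∈ T ↔ ∃ s : S, r - algebraMap S R s ∈ Jset k A S x j := by
    intro r
    rw [Submodule.mem_sup]
    constructor
    · rintro ⟨_, ⟨s, rfl⟩, z, hz, rfl⟩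
      refine ⟨s, ?_⟩
      have : algebraMap S R s + z - algebraMap S R s = z := by ring
      rw [Algebra.linearMap_apply, this]
      exact hz
    · rintro ⟨s, hs⟩
      exact ⟨_, ⟨s, rfl⟩, _, hs, by rw [Algebra.linearMap_apply]; ring⟩
  have hTtr : ∀ (g : A →ₐ[k] k) (r : R), r ∈ T → tr R g r ∈ T := by
    intro g r hr
    rw [hT] at hr ⊢
    obtain ⟨s, hs⟩ := hr
    refine ⟨tr S g s, ?_⟩
    have h2 : algebraMap S R (tr S g s) = tr R g (algebraMap S R s) := map_tr he g s
    rw [h2, ← map_sub]
    exact tr_mem_Jset x he j g hs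
  let I : Ideal S := T.colon Set.univ
  have hI : ∀ s : S, s ∈ I ↔ ∀ r : R, s • r ∈ T := by
    intro s
    rw [Submodule.mem_colon]
    exact ⟨fun h r => h r (Set.mem_univ r), fun h r _ => h r⟩
  by_cases htop : I = ⊤
  · have h1 := (hI 1).1 (by rw [htop]; trivial) r
    rw [one_smul] at h1
    exact (hT r).1 h1
  exfalso
  have hy : IsClosedOrbit k A y := isClosedOrbit_comp_of_finite he
    (algebraMap_isIntegral_iff.2 inferInstance) hx
  have hIy : I ≤ RingHom.ker y := by
    refine le_ker_of_nul_pow_le (j := j) hG hy I ?_ ?_ htop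
    · intro g s hs
      rw [hI] at hs ⊢
      intro r
      have h1 := hTtr g _ (hs (tr R (inv g) r))
      have h2 : tr R g (s • tr R (inv g) r) = tr S g s • r := by
        rw [Algebra.smul_def, map_mul, tr_tr_inv', Algebra.smul_def]
        congr 1
        exact (map_tr he g s).symm
      rwa [h2] at h1
    · intro s hs
      rw [hI]
      intro r
      apply Submodule.mem_sup_right
      change s • r ∈ Jset k A S x j
      refine map_le_Jset x j ?_
      rw [Algebra.smul_def]
      exact Ideal.mul_mem_right _ _ (Ideal.mem_map_of_mem _ hs)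
  -- Nakayama
  have h1 : ∀ r : R, r ∈ T ⊔ (RingHom.ker y • ⊤ : Submodule S R) := by
    intro r
    have h2 : r - algebraMap S R (algebraMap k S (x r)) ∈ RingHom.ker x := by
      rw [RingHom.mem_ker, map_sub, ← IsScalarTower.algebraMap_apply, AlgHom.commutes]
      exact sub_self _
    have h3 := ker_le_sup x hG he hx hinj hunr j h2
    obtain ⟨a, ha, b, hb, hab⟩ := Submodule.mem_sup.1 h3
    have h4 : r = (algebraMap S R (algebraMap k S (x r)) + a) + b := by
      rw [add_assoc, hab]
      ring
    rw [h4]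
    refine Submodule.add_mem_sup (Submodule.add_mem_sup ⟨_, rfl⟩ ha) ?_
    rw [Ideal.smul_top_eq_map]
    exact hb
  have h2 : (⊤ : Submodule S (R ⧸ T)) ≤ RingHom.ker y • ⊤ := by
    rintro z -
    obtain ⟨r, rfl⟩ := T.mkQ_surjective z
    have h3 := Submodule.mem_map_of_mem (f := T.mkQ) (h1 r)
    rw [Submodule.map_sup, Submodule.mkQ_map_self, bot_sup_eq, Submodule.map_smul''] at h3
    exact Submodule.smul_mono le_rfl le_top h3
  obtain ⟨e, he1, he2⟩ := Submodule.exists_sub_one_mem_and_smul_eq_zero_of_fg_of_le_smul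
    (RingHom.ker y) (⊤ : Submodule S (R ⧸ T)) Module.Finite.fg_top h2
  have h3 : e ∈ I := by
    rw [hI]
    intro r
    have h4 := he2 (T.mkQ r) trivial
    rw [← map_smul, Submodule.mkQ_apply, Submodule.Quotient.mk_eq_zero] at h4
    exact h4
  have h4 : y e = 0 := hIy h3
  have h5 : y (e - 1) = 0 := he1
  rw [map_sub, map_one, h4, zero_sub, neg_eq_zero] at h5
  exact one_ne_zero h5

/-- **Injectivity.** -/
theorem mem_pow_of_mem [IsReduced A] (hG : IsLinearlyReductive k A)
    (he : IsEquiv A (IsScalarTower.toAlgHom k S R)) [Algebra.IsIntegral S R]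
    (hx : IsClosedOrbit k A x)
    (hflat : ∀ (a : Ideal S) (s : S) (u : R), x u ≠ 0 → u * algebraMap S R s ∈ a.map (algebraMap S R) →
      ∃ t : S, x (algebraMap S R t) ≠ 0 ∧ t * s ∈ a) (j : ℕ)
    (s : S) (hs : algebraMap S R s ∈ Jset k A S x j) :
    s ∈ nul A (x.comp (IsScalarTower.toAlgHom k S R)) ^ j := by
  set y := x.comp (IsScalarTower.toAlgHom k S R) with hydef
  have hN : IsNoetherianRing S := Algebra.FiniteType.isNoetherianRing k S
  let K : Ideal S := (Jset k A S x j).comap (algebraMap S R)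
  have hK : ∀ (g : A →ₐ[k] k) (s : S), s ∈ K → tr S g s ∈ K := by
    intro g s hs
    have h2 : algebraMap S R (tr S g s) = tr R g (algebraMap S R s) := map_tr he g s
    change algebraMap S R (tr S g s) ∈ Jset k A S x j
    rw [h2]
    exact tr_mem_Jset x he j g hs
  let I : Ideal S := (nul A y ^ j).colon (K : Set S)
  have hI : ∀ t : S, t ∈ I ↔ ∀ s ∈ K, t * s ∈ nul A y ^ j := by
    intro t
    rw [Submodule.mem_colon]
    exact Iff.rfl
  by_cases htop : I = ⊤
  · have h1 := (hI 1).1 (by rw [htop]; trivial) s hs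
    rwa [one_mul] at h1
  exfalso
  have hy : IsClosedOrbit k A y := isClosedOrbit_comp_of_finite he
    (algebraMap_isIntegral_iff.2 inferInstance) hx
  have hIy : I ≤ RingHom.ker y := by
    refine le_ker_of_nul_pow_le (j := j) hG hy I ?_ ?_ htop
    · intro g t ht
      rw [hI] at ht ⊢
      intro s hs
      have h1 := tr_mem_nul_pow y j g (ht _ (hK (inv g) s hs))
      rwa [map_mul, tr_tr_inv'] at h1
    · intro t ht
      rw [hI]
      intro s _
      exact Ideal.mul_mem_right _ _ ht
  -- a common multiplier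
  have h1 : ∀ s ∈ K, ∃ t : S, y t ≠ 0 ∧ t * s ∈ nul A y ^ j := by
    rintro s ⟨u, -, hxu, h⟩
    exact hflat _ s u hxu h
  obtain ⟨F, hF⟩ := (isNoetherianRing_iff_ideal_fg S).1 hN K
  have h2 : ∀ s ∈ F, ∃ t : S, y t ≠ 0 ∧ t * s ∈ nul A y ^ j := fun s hs =>
    h1 s (hF ▸ Ideal.subset_span hs)
  choose! t ht0 ht using h2
  have h3 : (∏ s ∈ F, t s) ∈ I := by
    rw [hI]
    intro s hs
    have h4 : K ≤ Submodule.comap (LinearMap.mulLeft S (∏ s ∈ F, t s) : S →ₗ[S] S)
        (nul A y ^ j) := by
      rw [← hF]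
      refine Ideal.span_le.2 fun s hs => ?_
      change (∏ s ∈ F, t s) * s ∈ nul A y ^ j
      classical
      rw [← Finset.mul_prod_erase F t hs, mul_comm (t s), mul_assoc]
      exact Ideal.mul_mem_left _ _ (ht s hs)
    exact h4 hs
  have h4 := hIy h3
  rw [RingHom.mem_ker, map_prod] at h4
  exact Finset.prod_ne_zero_iff.2 ht0 h4

/-- The version of surjectivity for invariants. -/
theorem exists_invariant_sub_mem [IsDomain A] (hG : IsLinearlyReductive k A)
    (he : IsEquiv A (IsScalarTower.toAlgHom k S R)) [Module.Finite S R]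
    (hx : IsClosedOrbit k A x)
    (hinj : ∀ g : A →ₐ[k] k, actPt k g (x.comp (IsScalarTower.toAlgHom k S R)) =
      x.comp (IsScalarTower.toAlgHom k S R) → actPt k g x = x)
    (hunr : ∀ r : R, x r = 0 → ∃ s : R, x s ≠ 0 ∧
      s * r ∈ (RingHom.ker (x.comp (IsScalarTower.toAlgHom k S R))).map (algebraMap S R)) (j : ℕ)
    (r : R) (hr : r ∈ invariants k A R) :
    ∃ s ∈ invariants k A S, r - algebraMap S R s ∈ Jset k A S x j := by
  obtain ⟨s, hs⟩ := exists_sub_mem x hG he hx hinj hunr j r
  refine ⟨rey hG S s, rey_mem_invariants hG s, ?_⟩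
  have hJ : IsSubcomod (k := k) (A := A) ((Jset k A S x j).restrictScalars k) :=
    isSubcomod_ideal_of_tr _ fun g f hf => tr_mem_Jset x he j g hf
  have h1 := rey_mem_of_isSubcomod hG hJ hs
  rw [map_sub, rey_of_mem_invariants hG hr] at h1
  have h2 : algebraMap S R (rey hG S s) = rey hG R (algebraMap S R s) := map_rey_alg hG he s
  rw [h2]
  exact h1

end Fin

end K764.LunaFin
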