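import Groth.Agent.Books.UnipExt
import Groth.Agent.Sga3.H808.SkewPrimExists
import Groth.Agent.GIT.K690.Orbits
import Mathlib.RingTheory.Spectrum.Prime.FreeLocus
import Mathlib.RingTheory.Flat.FaithfullyFlat.Algebra

/-!
# Orbits of unipotent groups on affine schemes are closed

No finiteness assumption: a commutative unipotent Hopf algebra is faithfully flat over each of its right coideal
subalgebras.
-/

set_option autoImplicit false

universe u v w

open TensorProduct HopfRep

namespace K764.UnipOrbit

open Groth.Agent.Books.ComodBasic Groth.Agent.Books.ComodHom Groth.Agent.Books.ComodInv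
open Groth.Agent.Books.CoidealFlat Groth.Agent.Books.UnipExt

variable {k : Type u} [Field k] {A : Type v} [CommRing A] [HopfAlgebra k A]

/-- Nonzero subcomodules of comodules over a unipotent Hopf algebra contain nonzero fixed vectors. -/
theorem exists_fixed_mem (hU : IsUnipotent k A) {V : Type v} [AddCommGroup V] [Module k V]
    [Comod k A V] (W : Submodule k V) (hW : IsSubcomod (k := k) (A := A) W) (hne : W ≠ ⊥) :
    ∃ w ∈ W, w ≠ 0 ∧ w ∈ fixedPts k A V := by
  obtain ⟨v, hv, hv0⟩ := Submodule.exists_mem_ne_zero_of_ne_bot hne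
  let _ := subComod W hW
  obtain ⟨x, hx0, hx⟩ := Groth.Agent.Sga3.H808.SkewPrim.exists_fixed_of_unipotent hU W
    (v := ⟨v, hv⟩) (fun h => hv0 (congrArg Subtype.val h))
  refine ⟨x, x.2, fun h => hx0 (Subtype.ext h), ?_⟩
  exact IsComodHom.map_mem_fixedPts (isComodHom_subtype W hW) hx

/-- Fixed vectors of the regular comodule are scalars. -/
lemma eq_algebraMap_of_mem_fixedPts {a : A} (ha : a ∈ fixedPts k A A) :
    a = algebraMap k A (CoalgebraStruct.counit (R := k) a) := by
  have h4 := Coalgebra.rTensor_counit_comul (R := k) a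
  change LinearMap.rTensor A CoalgebraStruct.counit (Comod.coact (k := k) (A := A) a) = _ at h4
  rw [(mem_fixedPts_iff a).1 ha, LinearMap.rTensor_tmul] at h4
  have h5 := congrArg (TensorProduct.lid k A) h4
  rw [TensorProduct.lid_tmul, TensorProduct.lid_tmul, one_smul] at h5
  rw [Algebra.algebraMap_eq_smul_one]
  exact h5.symm

variable {R : Subalgebra k A}

/-- Coideal subalgebras of unipotent Hopf algebras are simple. -/
theorem simple (hU : IsUnipotent k A)
    (hR : IsSubcomod (k := k) (A := A) (Subalgebra.toSubmodule R)) (F : Ideal R)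
    (hF : F.map (coactAlg hR).toRingHom ≤
      F.map (Algebra.TensorProduct.includeLeft : R →ₐ[k] R ⊗[k] A).toRingHom) :
    F = ⊥ ∨ F = ⊤ := by
  by_cases h0 : F = ⊥
  · exact Or.inl h0
  right
  obtain ⟨x, hx, hx0⟩ := Submodule.exists_mem_ne_zero_of_ne_bot h0
  let W : Submodule k A := (F.restrictScalars k).map R.val.toLinearMap
  have hW : IsSubcomod (k := k) (A := A) W := by
    rw [isSubcomod_iff_dact]
    rintro ψ _ ⟨r, hr, rfl⟩
    have h1 : coactAlg hR r ∈
        F.map (Algebra.TensorProduct.includeLeft : R →ₐ[k] R ⊗[k] A).toRingHom :=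
      hF (Ideal.mem_map_of_mem _ hr)
    have h2 := slice_mem_of_mem_map F ψ h1
    refine ⟨_, h2, ?_⟩
    change ((slice R ψ (coactAlg hR r) : R) : A) = slice A ψ (CoalgebraStruct.comul (R := k) (r : A))
    rw [← slice_inclTensor, inclTensor_coactAlg]
  have hW0 : W ≠ ⊥ := by
    intro h
    have h1 : (x : A) ∈ W := ⟨x, hx, rfl⟩
    rw [h, Submodule.mem_bot] at h1
    exact hx0 (Subtype.ext h1)
  obtain ⟨w, ⟨r, hr, hrw⟩, hw0, hw⟩ := exists_fixed_mem hU W hW hW0
  have h3 := eq_algebraMap_of_mem_fixedPts hw
  have h4 : CoalgebraStruct.counit (R := k) w ≠ 0 := by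
    intro h
    rw [h, map_zero] at h3
    exact hw0 h3
  have h5 : r = algebraMap k R (CoalgebraStruct.counit (R := k) w) := by
    apply Subtype.ext
    change (r : A) = algebraMap k A _
    rw [← h3]
    exact hrw
  rw [Ideal.eq_top_iff_one]
  have h6 : algebraMap k R (CoalgebraStruct.counit (R := k) w)⁻¹ * r = 1 := by
    rw [h5, ← map_mul, inv_mul_cancel₀ h4, map_one]
  rw [← h6]
  exact F.mul_mem_left _ hr

/-- A unipotent Hopf algebra is faithfully flat over its coideal subalgebras. -/
theorem faithfullyFlat (hU : IsUnipotent k A)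
    (hR : IsSubcomod (k := k) (A := A) (Subalgebra.toSubmodule R)) :
    Module.FaithfullyFlat R A :=
  faithfullyFlat_of_simple hR (simple hU hR)

/-- **Kostant–Rosenlicht.** Orbits of unipotent groups on affine schemes are closed. -/
theorem isClosedOrbit (hU : IsUnipotent k A) {S : Type w} [CommRing S] [Algebra k S]
    [Comod k A S] [GLin.IsCoactAlg k A S] (x : S →ₐ[k] k) : GLin.IsClosedOrbit k A x := by
  set ρ := GLin.orbitHom k A x with hρ
  have hR : IsSubcomod (k := k) (A := A) (Subalgebra.toSubmodule ρ.range) := by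
    have h := (K690.Orbits.isComodHom_orbitHom (A := A) x).isSubcomod_range
    exact h
  have hff := faithfullyFlat hU hR
  have hsurj : Function.Surjective (PrimeSpectrum.comap (algebraMap ρ.range A)) :=
    PrimeSpectrum.comap_surjective_of_faithfullyFlat
  have hcomp : ρ.toRingHom = (algebraMap ρ.range A).comp ρ.rangeRestrict.toRingHom := rfl
  rw [GLin.IsClosedOrbit, ← hρ, hcomp, PrimeSpectrum.comap_comp,
    Set.range_comp, hsurj.range_eq, Set.image_univ]
  have hs : Function.Surjective ρ.rangeRestrict.toRingHom := ρ.rangeRestrict_surjective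
  exact PrimeSpectrum.isClosed_range_comap_of_surjective _ _ hs

end K764.UnipOrbit
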