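import Groth.Agent.GLin.K764.HopfMod
import Groth.Agent.GIT.K688.UnitTensor
import Groth.Agent.Books.ComodPoints
import Mathlib.RingTheory.UniqueFactorizationDomain.GCDMonoid
import Mathlib.RingTheory.HopfAlgebra.Convolution
import Mathlib.RingTheory.Coalgebra.GroupLike

/-!
# Semi-invariants and units

* `exists_groupLike`: units of a connected affine group over an algebraically closed field are scalar multiples of
  characters (Rosenlicht);
* `exists_coact_eq_mul`: if `f` divides all its translates then `ρ(f) = (f ⊗ 1) U` with `U` a unit;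
* `mem_invariants_of_dvd`: without characters such an `f` is invariant.
-/

set_option autoImplicit false

universe u v

open TensorProduct HopfRep

namespace K764.Units

open Groth.Agent.Books.ComodBasic Groth.Agent.Books.ComodHom Groth.Agent.Books.ComodInv
open K764.HopfMod K688.UnitTensor

section Groups

variable {k : Type u} [Field k] [IsAlgClosed k] {A : Type u} [CommRing A] [HopfAlgebra k A]
  [Algebra.FiniteType k A] [IsDomain A]

/-- **Rosenlicht.** Units are scalar multiples of characters. -/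
theorem exists_groupLike (u : A) (hu : IsUnit u) :
    ∃ (c : k) (χ : A), IsGroupLikeElem k χ ∧ u = c • χ := by
  have h1 : IsUnit (Bialgebra.comulAlgHom k A u) := hu.map _
  obtain ⟨a, b, ha, hb, hab⟩ := exists_tmul_of_isUnit (k := k) (A := A) (B := A) h1
  have hab' : CoalgebraStruct.comul (R := k) u = a ⊗ₜ[k] b := hab
  have e1 : (CoalgebraStruct.counit (R := k) a) • b = u := by
    have h2 := Coalgebra.rTensor_counit_comul (R := k) u
    erw [hab'] at h2
    rw [LinearMap.rTensor_tmul] at h2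
    have h3 := congrArg (TensorProduct.lid k A) h2
    simpa using h3
  have e2 : (CoalgebraStruct.counit (R := k) b) • a = u := by
    have h2 := Coalgebra.lTensor_counit_comul (R := k) u
    erw [hab'] at h2
    rw [LinearMap.lTensor_tmul] at h2
    have h3 := congrArg (TensorProduct.rid k A) h2
    simpa using h3
  set α := CoalgebraStruct.counit (R := k) a
  set β := CoalgebraStruct.counit (R := k) b
  have hα : α ≠ 0 := by
    have : IsUnit (Bialgebra.counitAlgHom k A a) := ha.map _
    exact this.ne_zero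
  have hβ : β ≠ 0 := by
    have : IsUnit (Bialgebra.counitAlgHom k A b) := hb.map _
    exact this.ne_zero
  have hεu : CoalgebraStruct.counit (R := k) u = α * β := by
    rw [← e1, map_smul]
    rfl
  refine ⟨α * β, (α * β)⁻¹ • u, ⟨?_, ?_⟩, ?_⟩
  · rw [map_smul, hεu, smul_eq_mul, inv_mul_cancel₀ (mul_ne_zero hα hβ)]
  · rw [map_smul, hab']
    have ea : a = β⁻¹ • u := by rw [← e2, smul_smul, inv_mul_cancel₀ hβ, one_smul]
    have eb : b = α⁻¹ • u := by rw [← e1, smul_smul, inv_mul_cancel₀ hα, one_smul]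
    rw [ea, eb, TensorProduct.smul_tmul_smul, TensorProduct.smul_tmul_smul, smul_smul]
    congr 1
    field_simp
  · rw [smul_smul, mul_inv_cancel₀ (mul_ne_zero hα hβ), one_smul]

theorem exists_scalar_of_no_char (hchar : ∀ a : A, IsGroupLikeElem k a → a = 1) (u : A)
    (hu : IsUnit u) : ∃ c : k, u = algebraMap k A c := by
  obtain ⟨c, χ, hχ, rfl⟩ := exists_groupLike (k := k) u hu
  exact ⟨c, by rw [hchar χ hχ, Algebra.algebraMap_eq_smul_one]⟩

end Groups

section Semi

variable {k : Type u} [Field k] {A : Type u} [CommRing A] [HopfAlgebra k A]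
variable {B : Type u} [CommRing B] [Algebra k B] [Comod k A B] [GLin.IsCoactAlg k A B]

variable (k A B) in
/-- The twist of `B ⊗ A` as an algebra map. -/
noncomputable def phiAlg : B ⊗[k] A →ₐ[k] B ⊗[k] A :=
  Algebra.TensorProduct.lift (GLin.coactAlgHom k A B) Algebra.TensorProduct.includeRight
    (fun _ _ => Commute.all _ _)

lemma phiAlg_apply (z : B ⊗[k] A) : phiAlg k A B z = Phi B z := by
  induction z with
  | zero => simp
  | add x y hx hy => rw [map_add, map_add, hx, hy]
  | tmul b a =>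
    rw [Phi_tmul, phiAlg, Algebra.TensorProduct.lift_tmul, GLin.coactAlgHom_apply]
    generalize Comod.coact (k := k) (A := A) b = z
    induction z with
    | zero => simp
    | add x y hx hy => rw [map_add, add_mul, hx, hy]
    | tmul b' a' => simp

lemma phiAlg_tmul_one (b : B) : phiAlg k A B (b ⊗ₜ[k] (1 : A)) =
    Comod.coact (k := k) (A := A) b := by
  rw [phiAlg_apply, Phi_tmul, rmul_one]

omit [Comod k A B] [GLin.IsCoactAlg k A B] in
lemma tmul_one_mul_injective [IsDomain B] {f : B} (hf : f ≠ 0) {z w : B ⊗[k] A}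
    (h : (f ⊗ₜ[k] (1 : A)) * z = (f ⊗ₜ[k] (1 : A)) * w) : z = w := by
  have h1 : ∀ z : B ⊗[k] A, (LinearMap.mulLeft k f).rTensor A z = (f ⊗ₜ[k] (1 : A)) * z := by
    intro z
    induction z with
    | zero => simp
    | add x y hx hy => rw [map_add, mul_add, hx, hy]
    | tmul b a => simp
  have hinj : Function.Injective (LinearMap.mulLeft k f) := mul_right_injective₀ hf
  apply Module.Flat.rTensor_preserves_injective_linearMap (M := A) _ hinj
  rw [h1, h1, h]

/-- If the coaction of `f` is a multiple of `f ⊗ 1`, it is a unit multiple. -/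
theorem isUnit_of_coact_eq_mul [IsDomain B] {f : B} (hf : f ≠ 0) {U : B ⊗[k] A}
    (hU : Comod.coact (k := k) (A := A) f = (f ⊗ₜ[k] (1 : A)) * U) : IsUnit U := by
  let σ : B ⊗[k] A →ₐ[k] B ⊗[k] A :=
    Algebra.TensorProduct.map (AlgHom.id k B) (HopfAlgebra.antipodeAlgHom k A)
  have h1 : Psi B (f ⊗ₜ[k] (1 : A)) = (f ⊗ₜ[k] (1 : A)) * σ U := by
    have h2 : Psi B (f ⊗ₜ[k] (1 : A)) = σ (Comod.coact (k := k) (A := A) f) := by
      rw [Psi_tmul, rmul_one]
      rfl
    rw [h2, hU, map_mul]
    congr 1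
    simp [σ]
  have h3 : f ⊗ₜ[k] (1 : A) = (f ⊗ₜ[k] (1 : A)) * (U * phiAlg k A B (σ U)) := by
    conv_lhs => rw [← Phi_Psi (V := B) (f ⊗ₜ[k] (1 : A)), h1, ← phiAlg_apply, map_mul,
      phiAlg_tmul_one, hU, mul_assoc]
  have h4 : U * phiAlg k A B (σ U) = 1 := by
    refine (tmul_one_mul_injective hf ?_).symm
    rw [mul_one]
    exact h3
  exact IsUnit.of_mul_eq_one _ h4

omit [GLin.IsCoactAlg k A B] in
/-- If `f` divides all its translates by rational points, its coaction is a multiple of `f ⊗ 1`. -/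
theorem exists_coact_eq_mul [IsAlgClosed k] [Algebra.FiniteType k A] [IsDomain A] {f : B}
    (hf : ∀ φ : A →ₐ[k] k, f ∣ Comod.act k A B φ f) :
    ∃ U : B ⊗[k] A, Comod.coact (k := k) (A := A) f = (f ⊗ₜ[k] (1 : A)) * U := by
  let I : Ideal B := Ideal.span {f}
  have h1 : Algebra.TensorProduct.map (Ideal.Quotient.mkₐ k I) (AlgHom.id k A)
      (Comod.coact (k := k) (A := A) f) = 0 := by
    refine ext_evB (k := k) fun φ => ?_
    rw [evB_map, map_zero]
    refine Ideal.Quotient.eq_zero_iff_mem.2 ?_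
    rw [Ideal.mem_span_singleton]
    have h2 : ∀ z : B ⊗[k] A, evB B φ z =
        TensorProduct.rid k B (LinearMap.lTensor B φ.toLinearMap z) := by
      intro z
      induction z with
      | zero => simp
      | add x y hx hy => simp only [map_add, hx, hy]
      | tmul b a => simp [evB_tmul]
    rw [h2]
    exact hf φ
  have hex : Function.Exact (((I.restrictScalars k).subtype).rTensor A)
      ((Ideal.Quotient.mkₐ k I).toLinearMap.rTensor A) := by
    apply rTensor_exact
    · intro x
      constructor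
      · intro h
        exact ⟨⟨x, Ideal.Quotient.eq_zero_iff_mem.1 h⟩, rfl⟩
      · rintro ⟨y, rfl⟩
        exact Ideal.Quotient.eq_zero_iff_mem.2 y.2
    · exact Ideal.Quotient.mkₐ_surjective k I
  obtain ⟨y, hy⟩ := (hex _).1 h1
  rw [← hy]
  clear hy h1
  induction y with
  | zero => exact ⟨0, by simp⟩
  | add x y hx hy =>
    obtain ⟨U, hU⟩ := hx
    obtain ⟨U', hU'⟩ := hy
    exact ⟨U + U', by rw [map_add, hU, hU', mul_add]⟩
  | tmul b a =>
    obtain ⟨c, hc⟩ := Ideal.mem_span_singleton.1 b.2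
    refine ⟨c ⊗ₜ[k] a, ?_⟩
    rw [LinearMap.rTensor_tmul, Submodule.subtype_apply, hc]
    simp

/-- Semi-invariants for a group without characters are invariants. -/
theorem mem_invariants_of_dvd [IsAlgClosed k] [Algebra.FiniteType k A] [IsDomain A] [IsDomain B]
    (hchar : ∀ a : A, IsGroupLikeElem k a → a = 1) {f : B} (hf0 : f ≠ 0)
    (hf : ∀ φ : A →ₐ[k] k, f ∣ Comod.act k A B φ f) : f ∈ GLin.invariants k A B := by
  obtain ⟨U, hU⟩ := exists_coact_eq_mul hf
  obtain ⟨b, a, hb, ha, rfl⟩ := exists_tmul_of_isUnit (k := k) (isUnit_of_coact_eq_mul hf0 hU)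
  obtain ⟨c, rfl⟩ := exists_scalar_of_no_char hchar a ha
  rw [GLin.mem_invariants_iff, hU]
  have h1 : b ⊗ₜ[k] algebraMap k A c = (c • b) ⊗ₜ[k] (1 : A) := by
    rw [Algebra.algebraMap_eq_smul_one, TensorProduct.tmul_smul, TensorProduct.smul_tmul']
  rw [h1, Algebra.TensorProduct.tmul_mul_tmul, one_mul] at hU ⊢
  have h2 := dact_counit (k := k) (A := A) f
  rw [dact_apply, hU, slice_tmul] at h2
  have h3 : (CoalgebraStruct.counit (R := k) (1 : A)) = 1 := Bialgebra.counit_one
  rw [h3, one_smul] at h2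
  rw [h2]

lemma act_of_mem_invariants {f : B} (hf : f ∈ GLin.invariants k A B) (φ : A →ₐ[k] k) :
    Comod.act k A B φ f = f := by
  have h1 : Comod.act k A B φ f = TensorProduct.rid k B (LinearMap.lTensor B φ.toLinearMap
    (Comod.coact (k := k) (A := A) f)) := rfl
  rw [h1, (GLin.mem_invariants_iff k A B f).1 hf]
  simp

/-- The action of a rational point as an algebra map. -/
lemma act_mul (φ : A →ₐ[k] k) (f g : B) :
    Comod.act k A B φ (f * g) = Comod.act k A B φ f * Comod.act k A B φ g := by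
  have h : ∀ f, Comod.act k A B φ f = (Algebra.TensorProduct.rid k k B)
      (Algebra.TensorProduct.map (AlgHom.id k B) φ (GLin.coactAlgHom k A B f)) := by
    intro f
    rfl
  rw [h, h, h, map_mul, map_mul, map_mul]

omit [GLin.IsCoactAlg k A B] in
lemma act_inv_act (φ : A →ₐ[k] k) (b : B) :
    Comod.act k A B (WithConv.toConv φ)⁻¹.ofConv (Comod.act k A B φ b) = b := by
  have h := LinearMap.congr_fun (Groth.Agent.Books.ComodPoints.act_mul (k := k) (A := A) (V := B)
    (WithConv.toConv φ)⁻¹ (WithConv.toConv φ)) b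
  rw [inv_mul_cancel, Groth.Agent.Books.ComodPoints.act_one] at h
  exact h.symm

omit [GLin.IsCoactAlg k A B] in
lemma act_act_inv (φ : A →ₐ[k] k) (b : B) :
    Comod.act k A B φ (Comod.act k A B (WithConv.toConv φ)⁻¹.ofConv b) = b := by
  have h := LinearMap.congr_fun (Groth.Agent.Books.ComodPoints.act_mul (k := k) (A := A) (V := B)
    (WithConv.toConv φ) (WithConv.toConv φ)⁻¹) b
  rw [mul_inv_cancel, Groth.Agent.Books.ComodPoints.act_one] at h
  exact h.symm

omit [GLin.IsCoactAlg k A B] in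
lemma act_injective (φ : A →ₐ[k] k) : Function.Injective (Comod.act k A B φ) :=
  Function.LeftInverse.injective (act_inv_act φ)

lemma act_dvd_act (φ : A →ₐ[k] k) {f g : B} (h : f ∣ g) :
    Comod.act k A B φ f ∣ Comod.act k A B φ g := by
  obtain ⟨c, rfl⟩ := h
  exact ⟨_, act_mul φ f c⟩

/-- Invariant fractions in a UFD: numerator and denominator of a reduced fraction divide their
translates. -/
theorem exists_reduced [IsDomain B] [UniqueFactorizationMonoid B] {f g : B} (hf : f ≠ 0)
    (hg : g ≠ 0)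
    (hinv : ∀ φ : A →ₐ[k] k, Comod.act k A B φ f * g = f * Comod.act k A B φ g) :
    ∃ f1 g1 d : B, f = d * f1 ∧ g = d * g1 ∧ f1 ≠ 0 ∧ g1 ≠ 0 ∧
      (∀ φ : A →ₐ[k] k, Comod.act k A B φ f1 * g1 = f1 * Comod.act k A B φ g1) ∧
      (∀ φ : A →ₐ[k] k, f1 ∣ Comod.act k A B φ f1) ∧
      (∀ φ : A →ₐ[k] k, g1 ∣ Comod.act k A B φ g1) := by
  obtain ⟨f1, g1, d, hrel, rfl, rfl⟩ := UniqueFactorizationMonoid.exists_reduced_factors' f g hg
  have hd : d ≠ 0 := left_ne_zero_of_mul hg
  have hf1 : f1 ≠ 0 := right_ne_zero_of_mul hf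
  have hg1 : g1 ≠ 0 := right_ne_zero_of_mul hg
  have h1 : ∀ φ : A →ₐ[k] k, Comod.act k A B φ f1 * g1 = f1 * Comod.act k A B φ g1 := by
    intro φ
    have h2 := hinv φ
    rw [act_mul, act_mul] at h2
    have hφd : Comod.act k A B φ d ≠ 0 := by
      intro h
      exact hd (act_injective φ (h.trans (map_zero _).symm))
    apply mul_left_cancel₀ (mul_ne_zero hd hφd)
    linear_combination h2
  refine ⟨f1, g1, d, rfl, rfl, hf1, hg1, h1, fun φ => ?_, fun φ => ?_⟩
  · have h2 : f1 ∣ Comod.act k A B φ f1 * g1 := ⟨_, h1 φ⟩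
    exact (hrel.dvd_of_dvd_mul_right h2)
  · have h2 : g1 ∣ f1 * Comod.act k A B φ g1 := ⟨Comod.act k A B φ f1, by rw [← h1 φ, mul_comm]⟩
    exact (hrel.symm.dvd_of_dvd_mul_left h2)

end Semi

end K764.Units
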